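import Mathlib

/-!
# Local finite algebras over a finite field and their extension to the residue field
-/

set_option autoImplicit false
set_option linter.style.haveILetI false
set_option linter.unusedSectionVars false

universe u v

open TensorProduct Polynomial

namespace Groth.Agent.H7VB

variable {k : Type u} [Field k] {R : Type v} [Ring R] [Algebra k R]

theorem not_isUnit_of_isNilpotent [Nontrivial R] {x : R} (hx : IsNilpotent x) : ¬ IsUnit x := fun h => by
  obtain ⟨n, hn⟩ := hx
  exact not_isUnit_zero (hn ▸ h.pow n)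

include k in
theorem mem_jacobson_iff_isNilpotent [Module.Finite k R] [Nontrivial R]  (hloc : ∀ x : R, IsUnit x ∨ IsNilpotent x) (x : R) :
    x ∈ Ring.jacobson R ↔ IsNilpotent x := by
  haveI : IsArtinianRing R := IsArtinianRing.of_finite k R
  rw [← Ideal.jacobson_bot, Ideal.mem_jacobson_iff]
  constructor
  · intro h
    refine (hloc x).resolve_left fun hu => ?_
    obtain ⟨z, hz⟩ := h (-(↑hu.unit⁻¹ : R))
    rw [Submodule.mem_bot, mul_assoc, neg_mul, hu.val_inv_mul, mul_neg, mul_one, neg_add_cancel, zero_sub,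
      neg_eq_zero] at hz
    exact one_ne_zero hz
  · intro hx y
    have hnu : ¬ IsUnit (y * x) := fun hu => by
      obtain ⟨n, hn⟩ := hx
      obtain ⟨u, hu⟩ : ∃ u : R, u * x = 1 := ⟨↑hu.unit⁻¹ * y, by rw [mul_assoc]; exact hu.val_inv_mul⟩
      have : ∀ m : ℕ, u ^ m * x ^ m = 1 := fun m => by
        induction m with
        | zero => simp
        | succ m ih =>
          rw [pow_succ u, pow_succ' x, mul_assoc, ← mul_assoc u x, hu, one_mul, ih]
      have h1 := this n
      rw [hn, mul_zero] at h1
      exact zero_ne_one h1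
    have h2 : IsUnit (1 + y * x) := ((hloc _).resolve_left hnu).isUnit_one_add
    refine ⟨↑h2.unit⁻¹, ?_⟩
    rw [Submodule.mem_bot, mul_assoc]
    have h3 := h2.val_inv_mul
    rw [mul_add, mul_one] at h3
    exact sub_eq_zero.2 ((add_comm _ _).trans h3)

/-- The residue field of a local finite algebra over a finite field lifts to a subfield. -/
theorem exists_residue [Module.Finite k R] [Finite k] [Nontrivial R]  (hloc : ∀ x : R, IsUnit x ∨ IsNilpotent x) :
    ∃ (L : Type v) (_ : Field L) (_ : Algebra k L) (_ : Module.Finite k L) (π : R →ₐ[k] L) (s : L →ₐ[k] R),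
      (∀ a, π (s a) = a) ∧ ∀ x, π x = 0 → IsNilpotent x := by
  classical
  haveI : Finite R := Module.finite_of_finite k
  let J := Ring.jacobson R
  let D := R ⧸ J
  haveI hnt : Nontrivial D := by
    refine ⟨0, 1, fun h => ?_⟩
    have h1 : (1 : R) ∈ J := Ideal.Quotient.eq_zero_iff_mem.1 ((map_one (Ideal.Quotient.mk J)).trans h.symm)
    exact not_isUnit_of_isNilpotent ((mem_jacobson_iff_isNilpotent (k := k) hloc 1).1 h1) isUnit_one
  have hD : ∀ a : D, IsUnit a ∨ a = 0 := fun a => by
    obtain ⟨x, rfl⟩ := Ideal.Quotient.mk_surjective a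
    exact (hloc x).imp (fun h => h.map _)
      fun h => Ideal.Quotient.eq_zero_iff_mem.2 ((mem_jacobson_iff_isNilpotent (k := k) hloc x).2 h)
  letI : DivisionRing D := DivisionRing.ofIsUnitOrEqZero hD
  haveI : Finite D := Finite.of_surjective (Ideal.Quotient.mk J) Ideal.Quotient.mk_surjective
  letI : Field D := littleWedderburn D
  let π : R →ₐ[k] D := Ideal.Quotient.mkₐ k J
  have hker : ∀ x, π x = 0 → IsNilpotent x := fun x hx =>
    (mem_jacobson_iff_isNilpotent (k := k) hloc x).1 (Ideal.Quotient.eq_zero_iff_mem.1 hx)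
  have hsurj : Function.Surjective π := Ideal.Quotient.mk_surjective
  haveI : Module.Finite k D := Module.Finite.of_surjective π.toLinearMap hsurj
  obtain ⟨α, hα⟩ := Field.exists_primitive_element k D
  obtain ⟨x, hx⟩ := hsurj α
  obtain ⟨p, hp⟩ := CharP.exists k
  haveI hpp : Fact p.Prime := ⟨CharP.char_is_prime k p⟩
  haveI : CharP R p := charP_of_injective_algebraMap (algebraMap k R).injective p
  haveI : CharP D p := charP_of_injective_algebraMap (algebraMap k D).injective p
  letI := Fintype.ofFinite D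
  obtain ⟨f, -, hf⟩ := FiniteField.card D p
  have hz : π (x ^ Fintype.card D - x) = 0 := by
    rw [map_sub, map_pow, hx, FiniteField.pow_card, sub_self]
  obtain ⟨n, hn⟩ := hker _ hz
  have hnle : n ≤ Fintype.card D ^ n := (Nat.lt_pow_self Fintype.one_lt_card).le
  let y := x ^ Fintype.card D ^ n
  have hy : y ^ Fintype.card D = y := by
    have h1 : (x ^ Fintype.card D - x) ^ Fintype.card D ^ n = 0 := pow_eq_zero_of_le hnle hn
    have h2 : Fintype.card D ^ n = p ^ ((f : ℕ) * n) := by rw [hf, pow_mul]
    rw [h2, sub_pow_char_pow_of_commute _ _ ((Commute.refl x).pow_left _), sub_eq_zero, ← h2] at h1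
    rw [← pow_mul, mul_comm, pow_mul]
    exact h1
  have hπy : π y = α := by rw [map_pow, hx, FiniteField.pow_card_pow]
  have hint : IsIntegral k α := Algebra.IsIntegral.isIntegral α
  have hd : minpoly k α ∣ X ^ Fintype.card D - X :=
    minpoly.dvd k α (by simp [FiniteField.pow_card])
  obtain ⟨g, hg⟩ := hd
  have hsep : (X ^ Fintype.card D - X : k[X]).Separable := by
    have h0 : ((Fintype.card D : ℕ) : k) = 0 := by
      rw [hf, Nat.cast_pow, CharP.cast_eq_zero k p, zero_pow f.ne_zero]
    refine ⟨0, -1, ?_⟩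
    simp [derivative_sub, derivative_X_pow, h0]
  rw [hg] at hsep
  obtain ⟨a, b, hab⟩ := hsep.isCoprime
  have hmul : aeval y (minpoly k α) * aeval y g = 0 := by
    rw [← map_mul, ← hg]
    simp [hy]
  have hnil : IsNilpotent (aeval y a * aeval y (minpoly k α)) := by
    refine hker _ ?_
    rw [map_mul, ← aeval_algHom_apply π y (minpoly k α), hπy, minpoly.aeval, mul_zero]
  have hfy : aeval y (minpoly k α) = 0 := by
    have h3 : aeval y (minpoly k α) * (1 - aeval y a * aeval y (minpoly k α)) = 0 := by
      have h4 : (1 : R) - aeval y a * aeval y (minpoly k α) = aeval y b * aeval y g := by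
        have := congrArg (aeval y) hab
        rw [map_add, map_mul, map_mul, map_one] at this
        rw [sub_eq_iff_eq_add']
        exact this.symm
      rw [h4, ← map_mul, ← map_mul, mul_left_comm, map_mul, map_mul, hmul, mul_zero]
    exact (hnil.isUnit_one_sub.mul_left_eq_zero).1 h3
  have hadj : Algebra.adjoin k {α} = ⊤ := by
    rw [← IntermediateField.adjoin_simple_toSubalgebra_of_isAlgebraic hint.isAlgebraic, hα]
    rfl
  let pb := PowerBasis.ofAdjoinEqTop hint hadj
  have hgen : pb.gen = α := PowerBasis.ofAdjoinEqTop_gen hint hadj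
  let s : D →ₐ[k] R := pb.lift y (by rw [hgen]; exact hfy)
  refine ⟨D, inferInstance, inferInstance, inferInstance, π, s, fun c => ?_, hker⟩
  have : π.comp s = AlgHom.id k D := pb.algHom_ext (by
    rw [AlgHom.comp_apply, PowerBasis.lift_gen, hπy, AlgHom.id_apply, hgen])
  exact AlgHom.congr_fun this c

section Extension

variable (K : Type u) [Field K] [Algebra k K]

/-- Elements of the kernel of the base change of the residue map are nilpotent. -/
theorem isNilpotent_of_map_eq_zero [Module.Finite k R] {L : Type u} [Field L] [Algebra k L] (π : R →ₐ[k] L) (s : L →ₐ[k] R)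
    (hs : ∀ a, π (s a) = a) (hker : ∀ x, π x = 0 → IsNilpotent x) (t : K ⊗[k] R)
    (ht : Algebra.TensorProduct.map (AlgHom.id K K) π t = 0) : IsNilpotent t := by
  haveI : IsArtinianRing R := IsArtinianRing.of_finite k R
  haveI : Nontrivial R := π.toRingHom.domain_nontrivial
  have hloc : ∀ x : R, IsUnit x ∨ IsNilpotent x := fun x => by
    rcases eq_or_ne (π x) 0 with h | h
    · exact Or.inr (hker x h)
    · left
      have h1 : IsNilpotent (1 - x * s (π x)⁻¹) := hker _ (by
        rw [map_sub, map_one, map_mul, hs, mul_inv_cancel₀ h, sub_self])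
      have h2 : IsUnit (x * s (π x)⁻¹) := by
        simpa using h1.isUnit_one_sub
      have h4 : IsUnit (s (π x)⁻¹) := (IsUnit.mk0 _ (inv_ne_zero h)).map s
      exact (Units.isUnit_mul_units x h4.unit).1 (by rwa [IsUnit.unit_spec])
  obtain ⟨N, hN⟩ := IsArtinianRing.isNilpotent_jacobson_bot (R := R)
  rw [Ideal.jacobson_bot] at hN
  let T : ℕ → Submodule K (K ⊗[k] R) := fun j =>
    Submodule.span K ((fun y : R => (1 : K) ⊗ₜ[k] y) '' ((Ring.jacobson R) ^ j : Ideal R))
  have hstep : ∀ j, ∀ a ∈ T 1, ∀ b ∈ T j, a * b ∈ T (j + 1) := by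
    intro j a ha b hb
    induction ha using Submodule.span_induction with
    | zero => simp
    | add a a' _ _ iha iha' => rw [add_mul]; exact add_mem iha iha'
    | smul c a _ iha => rw [smul_mul_assoc]; exact Submodule.smul_mem _ c iha
    | mem a ha =>
      obtain ⟨y, hy, rfl⟩ := ha
      induction hb using Submodule.span_induction with
      | zero => simp
      | add b b' _ _ ihb ihb' => rw [mul_add]; exact add_mem ihb ihb'
      | smul c b _ ihb => rw [mul_smul_comm]; exact Submodule.smul_mem _ c ihb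
      | mem b hb =>
        obtain ⟨z, hz, rfl⟩ := hb
        refine Submodule.subset_span ⟨y * z, ?_, by simp [Algebra.TensorProduct.tmul_mul_tmul]⟩
        rw [Ideal.IsTwoSided.pow_succ]
        exact Ideal.mul_mem_mul (by rwa [SetLike.mem_coe, Submodule.pow_one] at hy) hz
  have h1 : ∀ z : K ⊗[k] R, z - Algebra.TensorProduct.map (AlgHom.id K K) (s.comp π) z ∈ T 1 := by
    intro z
    induction z using TensorProduct.induction_on with
    | zero => simp
    | tmul c r =>
      rw [Algebra.TensorProduct.map_tmul, AlgHom.id_apply, ← tmul_sub,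
        show c ⊗ₜ[k] (r - (s.comp π) r) = c • ((1 : K) ⊗ₜ[k] (r - s (π r))) by
          rw [smul_tmul', smul_eq_mul, mul_one]; rfl]
      refine Submodule.smul_mem _ c (Submodule.subset_span ⟨_, ?_, rfl⟩)
      rw [SetLike.mem_coe, Submodule.pow_one]
      exact (mem_jacobson_iff_isNilpotent (k := k) hloc _).2 (hker _ (by rw [map_sub, hs, sub_self]))
    | add a b ha hb => rw [map_add, add_sub_add_comm]; exact add_mem ha hb
  have ht1 : t ∈ T 1 := by
    have h2 : Algebra.TensorProduct.map (AlgHom.id K K) (s.comp π) t =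
        Algebra.TensorProduct.map (AlgHom.id K K) s (Algebra.TensorProduct.map (AlgHom.id K K) π t) := by
      rw [← AlgHom.comp_apply, ← Algebra.TensorProduct.map_comp, AlgHom.id_comp]
    have := h1 t
    rwa [h2, ht, map_zero, sub_zero] at this
  have hpow : ∀ j, t ^ (j + 1) ∈ T (j + 1) := fun j => by
    induction j with
    | zero => simpa using ht1
    | succ j ih => rw [pow_succ']; exact hstep _ _ ht1 _ ih
  refine ⟨N + 1, ?_⟩
  have := hpow N
  have hbot : ((Ring.jacobson R) ^ (N + 1) : Ideal R) = ⊥ := by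
    rw [Ideal.IsTwoSided.pow_succ, hN, Ideal.zero_eq_bot]; simp
  simp only [T, hbot, Submodule.bot_coe, Set.image_singleton, tmul_zero, Submodule.span_singleton_eq_bot.2 rfl,
    Submodule.mem_bot] at this
  exact this

/-- Idempotents of `K ⊗ R` are zero as soon as their reductions are. -/
theorem idem_eq_zero [Module.Finite k R] {L : Type u} [Field L] [Algebra k L] (π : R →ₐ[k] L) (s : L →ₐ[k] R)
    (hs : ∀ a, π (s a) = a) (hker : ∀ x, π x = 0 → IsNilpotent x) (t : K ⊗[k] R) (he : t * t = t)
    (ht : Algebra.TensorProduct.map (AlgHom.id K K) π t = 0) : t = 0 :=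
  IsIdempotentElem.eq_zero_of_isNilpotent he (isNilpotent_of_map_eq_zero K π s hs hker t ht)

variable [FiniteDimensional k K] [IsGalois k K]

/-- The points of `K ⊗ K`. -/
noncomputable def galPts : K ⊗[k] K →ₐ[K] ((K ≃ₐ[k] K) → K) :=
  AlgHom.pi fun g => Algebra.TensorProduct.lift (AlgHom.id K K) g.toAlgHom fun _ _ => Commute.all _ _

theorem galPts_tmul (a b : K) (g : K ≃ₐ[k] K) : galPts K (a ⊗ₜ[k] b) g = a * g b := by
  simp [galPts]

theorem galPts_bijective : Function.Bijective (galPts (k := k) K) := by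
  classical
  have hsurj : Function.Surjective (galPts (k := k) K).toLinearMap := by
    rw [← LinearMap.range_eq_top]
    by_contra hne
    obtain ⟨φ, hφ, hle⟩ := Submodule.exists_le_ker_of_lt_top _ (lt_top_iff_ne_top.2 hne)
    have hli := (linearIndependent_toLinearMap k K K).comp (fun g : K ≃ₐ[k] K => g.toAlgHom)
      fun g h e => AlgEquiv.ext fun x => AlgHom.congr_fun e x
    have h0 : ∑ g, φ (Pi.single g 1) • ((g : K ≃ₐ[k] K).toAlgHom.toLinearMap) = 0 := by
      refine LinearMap.ext fun x => ?_
      have h1 : φ (galPts K ((1 : K) ⊗ₜ[k] x)) = 0 := hle (LinearMap.mem_range_self (galPts (k := k) K).toLinearMap ((1 : K) ⊗ₜ[k] x))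
      rw [LinearMap.pi_apply_eq_sum_univ φ] at h1
      simp only [LinearMap.coe_sum, Finset.sum_apply, LinearMap.smul_apply, LinearMap.zero_apply,
        AlgHom.toLinearMap_apply, smul_eq_mul]
      refine Eq.trans (Finset.sum_congr rfl fun g _ => ?_) h1
      rw [galPts_tmul, one_mul, smul_eq_mul, mul_comm]
      exact congrArg (fun z => g x * φ z) (funext fun j => by simp [Pi.single_apply, eq_comm])
    refine hφ (LinearMap.pi_ext fun g c => ?_)
    have h2 := Fintype.linearIndependent_iff.1 hli _ h0 g
    rw [show (Pi.single g c : (K ≃ₐ[k] K) → K) = c • Pi.single g 1 by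
      rw [← Pi.single_smul', smul_eq_mul, mul_one], map_smul, h2, smul_zero, LinearMap.zero_apply]
  have hdim : Module.finrank K (K ⊗[k] K) = Module.finrank K ((K ≃ₐ[k] K) → K) := by
    rw [Module.finrank_baseChange, Module.finrank_fintype_fun_eq_card, ← Nat.card_eq_fintype_card,
      IsGalois.card_aut_eq_finrank]
  exact ⟨(LinearMap.injective_iff_surjective_of_finrank_eq_finrank hdim).2 hsurj, hsurj⟩

variable {K} (π : R →ₐ[k] K) (s : K →ₐ[k] R)

/-- The reduction of `K ⊗ R`. -/
noncomputable def red : K ⊗[k] R →ₐ[K] ((K ≃ₐ[k] K) → K) :=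
  (galPts K).comp (Algebra.TensorProduct.map (AlgHom.id K K) π)

/-- The idempotents of `K ⊗ K`. -/
noncomputable def galIdem (g : K ≃ₐ[k] K) : K ⊗[k] K :=
  letI := Classical.decEq (K ≃ₐ[k] K)
  ((galPts_bijective (k := k) K).2 (Pi.single g 1)).choose

theorem galPts_galIdem [DecidableEq (K ≃ₐ[k] K)] (g : K ≃ₐ[k] K) :
    galPts (k := k) K (galIdem g) = Pi.single g 1 := by
  unfold galIdem
  refine (((galPts_bijective (k := k) K).2 _).choose_spec).trans ?_
  congr
  exact Subsingleton.elim _ _

/-- The idempotents of `K ⊗ R`. -/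
noncomputable def idem (g : K ≃ₐ[k] K) : K ⊗[k] R :=
  Algebra.TensorProduct.map (AlgHom.id K K) s (galIdem g)

theorem red_idem [DecidableEq (K ≃ₐ[k] K)] (hs : ∀ a, π (s a) = a) (g : K ≃ₐ[k] K) :
    red π (idem s g) = Pi.single g 1 := by
  show galPts K (Algebra.TensorProduct.map (AlgHom.id K K) π (Algebra.TensorProduct.map (AlgHom.id K K) s _)) = _
  rw [← AlgHom.comp_apply (Algebra.TensorProduct.map (AlgHom.id K K) π), ← Algebra.TensorProduct.map_comp,
    AlgHom.id_comp, show π.comp s = AlgHom.id k K from AlgHom.ext hs, Algebra.TensorProduct.map_id, AlgHom.id_apply]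
  exact galPts_galIdem g

theorem idem_mul_self (g : K ≃ₐ[k] K) : idem s g * idem s g = idem s g := by
  classical
  unfold idem
  rw [← map_mul]
  refine congrArg _ ((galPts_bijective K).1 ?_)
  rw [map_mul, galPts_galIdem, ← Pi.single_mul, one_mul]

theorem idem_mul_of_ne {g h : K ≃ₐ[k] K} (hgh : g ≠ h) : idem s g * idem s h = 0 := by
  classical
  unfold idem
  rw [← map_mul]
  refine (congrArg _ ((galPts_bijective K).1 ?_)).trans (map_zero _)
  rw [map_mul, map_zero, galPts_galIdem, galPts_galIdem]
  refine funext fun j => ?_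
  simp only [Pi.mul_apply, Pi.single_apply, Pi.zero_apply]
  split_ifs with h1 h2
  · exact absurd (h1.symm.trans h2) hgh
  · simp
  · simp
  · simp

theorem sum_idem : ∑ g, idem s g = 1 := by
  classical
  unfold idem
  rw [← map_sum]
  refine (congrArg _ ((galPts_bijective K).1 ?_)).trans (map_one _)
  rw [map_sum, map_one]
  simp only [galPts_galIdem]
  exact Finset.univ_sum_single (fun _ => (1 : K))

/-- The action of the Galois group on `K ⊗ R`. -/
noncomputable def galT (σ : K ≃ₐ[k] K) : K ⊗[k] R ≃ₐ[k] K ⊗[k] R :=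
  Algebra.TensorProduct.congr σ AlgEquiv.refl

theorem galT_tmul (σ : K ≃ₐ[k] K) (a : K) (r : R) : galT σ (a ⊗ₜ[k] r) = σ a ⊗ₜ[k] r := by
  simp [galT]

theorem red_galT (σ h : K ≃ₐ[k] K) (t : K ⊗[k] R) : red π (galT σ t) (σ * h) = σ (red π t h) := by
  induction t using TensorProduct.induction_on with
  | zero => simp
  | tmul a r => simp [galT_tmul, red, galPts_tmul]
  | add a b ha hb => simp only [map_add, Pi.add_apply, ha, hb]

theorem galT_idem [DecidableEq (K ≃ₐ[k] K)] (σ g : K ≃ₐ[k] K) : galT σ (idem (R := R) s g) = idem s (σ * g) := by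
  have hc : ∀ z : K ⊗[k] K, galT σ (Algebra.TensorProduct.map (AlgHom.id K K) s z) =
      Algebra.TensorProduct.map (AlgHom.id K K) s (galT σ z) := fun z => by
    induction z using TensorProduct.induction_on with
    | zero => simp
    | tmul a b => simp [galT_tmul]
    | add a b ha hb => simp only [map_add, ha, hb]
  unfold idem
  rw [hc]
  refine congrArg _ ((galPts_bijective K).1 (funext fun h => ?_))
  have h1 := red_galT (R := K) (AlgHom.id k K) σ (σ⁻¹ * h) (galIdem g)
  rw [mul_inv_cancel_left] at h1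
  simp only [red, Algebra.TensorProduct.map_id, AlgHom.comp_id] at h1
  rw [h1, galPts_galIdem, galPts_galIdem]
  simp only [Pi.single_apply, inv_mul_eq_iff_eq_mul]
  split_ifs <;> simp_all

/-- If compositions along the idempotents of nonzero elements are nonzero, the residue map is bijective. -/
theorem bijective_of_paths [Module.Finite k R] (hs : ∀ a, π (s a) = a) (hker : ∀ x, π x = 0 → IsNilpotent x)
    (hdom : ∀ (g h l : K ≃ₐ[k] K) (a b : K ⊗[k] R), idem s g * a * idem s h ≠ 0 → idem s h * b * idem s l ≠ 0 →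
      idem s g * a * idem s h * b * idem s l ≠ 0) :
    Function.Bijective π := by
  classical
  refine ⟨(injective_iff_map_eq_zero π).2 fun x hx => ?_, fun a => ⟨s a, hs a⟩⟩
  let t : K ⊗[k] R := (1 : K) ⊗ₜ[k] x
  have ht : red π t = 0 := by simp [red, t, hx]
  have hnil : ∀ z : K ⊗[k] R, red π z = 0 → IsNilpotent z := fun z hz =>
    isNilpotent_of_map_eq_zero K π s hs hker z ((galPts_bijective K).1 (hz.trans (map_zero _).symm))
  have hzero : ∀ g h : K ≃ₐ[k] K, idem s g * t * idem s h = 0 := by
    intro g h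
    by_contra hne
    let σ := h * g⁻¹
    have hfix : ∀ τ : K ≃ₐ[k] K, galT τ t = t := fun τ => by simp [t, galT_tmul]
    have hne' : ∀ j : ℕ, idem s (σ ^ j * g) * t * idem s (σ ^ (j + 1) * g) ≠ 0 := fun j => by
      have h1 := (galT (R := R) (σ ^ j)).injective.ne hne
      rw [map_zero, map_mul, map_mul, galT_idem, galT_idem, hfix] at h1
      rwa [show σ ^ (j + 1) * g = σ ^ j * h by rw [pow_succ, mul_assoc]; simp [σ]]
    have hchain : ∀ j : ℕ, ∃ P : K ⊗[k] R, red π P = 0 ∧
        idem s g * P * idem s (σ ^ (j + 1) * g) ≠ 0 := fun j => by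
      induction j with
      | zero => exact ⟨t, ht, by simpa using hne' 0⟩
      | succ j ih =>
        obtain ⟨P, hP0, hP⟩ := ih
        refine ⟨P * idem s (σ ^ (j + 1) * g) * t, by simp [hP0], ?_⟩
        have h2 := hdom _ _ _ P t hP (hne' (j + 1))
        simpa [mul_assoc] using h2
    obtain ⟨P, hP0, hP⟩ := hchain (orderOf σ - 1)
    rw [Nat.sub_add_cancel (orderOf_pos σ), pow_orderOf_eq_one, one_mul] at hP
    let W := idem s g * P * idem s g
    have hW : ∀ m : ℕ, W ^ (m + 1) ≠ 0 ∧ ∃ Q, W ^ (m + 1) = idem s g * Q * idem s g := fun m => by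
      induction m with
      | zero => exact ⟨by simpa [W] using hP, P, by simp [W]⟩
      | succ m ih =>
        obtain ⟨hm, Q, hQ⟩ := ih
        have h3 : W ^ (m + 1 + 1) = idem s g * Q * idem s g * P * idem s g := by
          rw [pow_succ, hQ]
          simp only [W, mul_assoc]
          rw [← mul_assoc (idem s g) (idem s g), idem_mul_self]
        refine ⟨h3 ▸ hdom _ _ _ Q P (hQ ▸ hm) hP, Q * idem s g * P, ?_⟩
        rw [h3]
        simp only [mul_assoc]
    obtain ⟨m, hm⟩ := hnil W (by simp [W, hP0])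
    exact (hW m).1 (by rw [pow_succ, hm, zero_mul])
  have h0 : t = 0 := by
    calc t = (∑ g, idem s g) * t * ∑ h, idem s h := by rw [sum_idem, one_mul, mul_one]
      _ = 0 := by simp only [Finset.sum_mul, Finset.mul_sum, hzero, Finset.sum_const_zero]
  obtain ⟨l, hl⟩ := (Algebra.linearMap k K).exists_leftInverse_of_injective
    (LinearMap.ker_eq_bot.2 (algebraMap k K).injective)
  have hl1 : l 1 = 1 := by simpa using LinearMap.congr_fun hl 1
  simpa [t, hl1] using congrArg (fun z => TensorProduct.lid k R (l.rTensor R z)) h0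

end Extension

end Groth.Agent.H7VB
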