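import Groth.Agent.H7VB.Core
import Groth.Agent.H29RR.MonoHom
import Groth.Agent.H29RR.RankTwo
import Groth.Agent.H26Gr.QuotBC
import Groth.Agent.H23KS.Indec

/-!
# Indecomposable bundles of prime rank that decompose after extension of the finite base field
-/

set_option autoImplicit false
set_option linter.style.haveILetI false
set_option linter.unusedSectionVars false
set_option backward.isDefEq.respectTransparency false

universe u

open CategoryTheory CategoryTheory.Limits AlgebraicGeometry TensorProduct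

namespace Groth.Agent.H7VB

open Groth.Agent

attribute [local instance] Abelian.hasFiniteBiproducts

variable {k : Type u} [Field k] {X : Scheme.{u}}
  [X.Over (Spec (CommRingCat.of k))] [IsProper (X ↘ Spec (CommRingCat.of k))]

include k in
/-- The endomorphism ring of an indecomposable coherent module is local. -/
theorem isUnit_or_isNilpotent_end {E : X.Modules} (hE : Coh.IsCoh E)
    (hind : ¬ IsZero E ∧ ∀ E₁ E₂ : X.Modules, Nonempty (E ≅ E₁ ⊞ E₂) → IsZero E₁ ∨ IsZero E₂) (f : End E) :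
    IsUnit f ∨ IsNilpotent f := by
  haveI : Module.Finite k (End E) := H29RR.finite_hom (k := k) hE hE
  exact H23KS.isUnit_or_isNilpotent hind (H23KS.piReg_of_finite k E) f

theorem nontrivial_end {E : X.Modules} (h : ¬ IsZero E) : Nontrivial (End E) :=
  ⟨1, 0, fun h' => h ((IsZero.iff_id_eq_zero _).2 h')⟩

/-- The residue field of the endomorphism ring, with a lift. -/
theorem exists_residue_end [Finite k] {E : X.Modules} (hE : Coh.IsCoh E)
    (hind : ¬ IsZero E ∧ ∀ E₁ E₂ : X.Modules, Nonempty (E ≅ E₁ ⊞ E₂) → IsZero E₁ ∨ IsZero E₂) :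
    ∃ (L : Type u) (_ : Field L) (_ : Algebra k L) (_ : Module.Finite k L) (π : End E →ₐ[k] L)
      (s : L →ₐ[k] End E), (∀ a, π (s a) = a) ∧ ∀ x, π x = 0 → IsNilpotent x := by
  haveI : Module.Finite k (End E) := H29RR.finite_hom (k := k) hE hE
  haveI := nontrivial_end hind.1
  exact exists_residue (isUnit_or_isNilpotent_end (k := k) hE hind)

/-- If the residue field of the endomorphism ring is the base field, the bundle is geometrically indecomposable. -/
theorem isZero_or_isZero_of_finrank_eq_one {K : Type u} [Field K] [Algebra k K] {X' : Scheme.{u}}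
    [X'.Over (Spec (CommRingCat.of K))] {q : X' ⟶ X}
    (hsq : IsPullback q (X' ↘ Spec (CommRingCat.of K)) (X ↘ Spec (CommRingCat.of k))
      (Spec.map (CommRingCat.ofHom (algebraMap k K))))
    {E : X.Modules} (hE : Coh.IsCoh E) {L : Type u} [Field L] [Algebra k L] [Module.Finite k L]
    (π : End E →ₐ[k] L) (s : L →ₐ[k] End E) (hs : ∀ a, π (s a) = a) (hker : ∀ x, π x = 0 → IsNilpotent x)
    (h1 : Module.finrank k L = 1) {E₁ E₂ : X'.Modules}
    (e : (Scheme.Modules.pullback q).obj E ≅ E₁ ⊞ E₂) : IsZero E₁ ∨ IsZero E₂ := by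
  haveI : Module.Finite k (End E) := H29RR.finite_hom (k := k) hE hE
  obtain ⟨Φ, -⟩ := exists_endEquiv hsq hE
  let ε : End ((Scheme.Modules.pullback q).obj E) := e.hom ≫ biprod.fst ≫ biprod.inl ≫ e.inv
  have hε : ε * ε = ε := by
    show (e.hom ≫ biprod.fst ≫ biprod.inl ≫ e.inv) ≫ (e.hom ≫ biprod.fst ≫ biprod.inl ≫ e.inv) = _
    simp [ε]
  let t := Φ.symm ε
  have ht : t * t = t := by simp [t, ← map_mul, hε]
  let w := Algebra.TensorProduct.map (AlgHom.id K K) π t
  have hbij : Function.Bijective (algebraMap K (K ⊗[k] L)) := by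
    haveI : Nontrivial (K ⊗[k] L) := Module.nontrivial_of_finrank_eq_succ (R := K) (n := 0)
      (by rw [Module.finrank_baseChange, h1])
    exact ⟨(algebraMap K (K ⊗[k] L)).injective, (LinearMap.injective_iff_surjective_of_finrank_eq_finrank
      (f := Algebra.linearMap K (K ⊗[k] L)) (by rw [Module.finrank_self, Module.finrank_baseChange, h1])).1
        (algebraMap K (K ⊗[k] L)).injective⟩
  obtain ⟨c, hc⟩ := hbij.2 w
  have hcc : c * c = c := hbij.1 (by rw [map_mul, hc, ← map_mul, ht])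
  have hcase : w = 0 ∨ w = 1 := by
    rcases IsIdempotentElem.iff_eq_zero_or_one.1 (hcc : IsIdempotentElem c) with h | h
    · exact Or.inl (by rw [← hc, h, map_zero])
    · exact Or.inr (by rw [← hc, h, map_one])
  rcases hcase with h | h
  · left
    have h0 : ε = 0 := by
      rw [← Φ.apply_symm_apply ε, show Φ.symm ε = t from rfl, idem_eq_zero K π s hs hker t ht h, map_zero]
    refine (IsZero.iff_id_eq_zero _).2 ?_
    have := congrArg (fun z : (Scheme.Modules.pullback q).obj E ⟶ _ => biprod.inl ≫ e.inv ≫ z ≫ e.hom ≫ biprod.fst) h0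
    simpa [ε] using this
  · right
    have h2 : (1 - t) * (1 - t) = 1 - t := by
      rw [sub_mul, mul_sub, mul_sub, mul_one, one_mul, mul_one, ht, sub_self, sub_zero]
    have h0 : ε = 1 := by
      have h3 := idem_eq_zero K π s hs hker (1 - t) h2 (by rw [map_sub, map_one]; exact sub_eq_zero.2 h.symm)
      rw [← Φ.apply_symm_apply ε, show Φ.symm ε = t from rfl, ← sub_eq_zero.1 h3, map_one]
    refine (IsZero.iff_id_eq_zero _).2 ?_
    have := congrArg (fun z : (Scheme.Modules.pullback q).obj E ⟶ _ => biprod.inr ≫ e.inv ≫ z ≫ e.hom ≫ biprod.snd) h0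
    simpa [ε] using this.symm

/-- Bundles of prime rank which split geometrically: the residue field is the extension of degree the rank. -/
theorem exists_residue_rank [Finite k] (O : Spec (CommRingCat.of k) ⟶ X)
    (hO : O ≫ (X ↘ Spec (CommRingCat.of k)) = 𝟙 _) {E : X.Modules} {n : ℕ} (hn : n.Prime)
    (hE : FlatMod.IsFinLocFreeOfRank n E) (hEc : Coh.IsCoh E)
    (hind : ¬ IsZero E ∧ ∀ E₁ E₂ : X.Modules, Nonempty (E ≅ E₁ ⊞ E₂) → IsZero E₁ ∨ IsZero E₂)
    (hng : ∃ (K : Type u) (_ : Field K) (_ : Algebra k K) (E₁ E₂ : (Curv2.bc k X K).Modules),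
      ¬ IsZero E₁ ∧ ¬ IsZero E₂ ∧ Nonempty ((Scheme.Modules.pullback (Curv2.bcFst k X K)).obj E ≅ E₁ ⊞ E₂))
    (K : Type u) [Field K] [Algebra k K] (hK : Module.finrank k K = n) :
    ∃ (π : End E →ₐ[k] K) (s : K →ₐ[k] End E), (∀ a, π (s a) = a) ∧ ∀ x, π x = 0 → IsNilpotent x := by
  obtain ⟨L, _, _, _, π, s, hs, hker⟩ := exists_residue_end (k := k) hEc hind
  have hd := finrank_dvd_rank O hO hE L s
  rcases hn.eq_one_or_self_of_dvd _ hd with h | h
  · obtain ⟨K', _, _, E₁, E₂, h1, h2, ⟨e⟩⟩ := hng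
    letI : (Curv2.bc k X K').Over (Spec (CommRingCat.of K')) := ⟨Curv2.bcSnd k X K'⟩
    rcases isZero_or_isZero_of_finrank_eq_one (IsPullback.of_hasPullback _ _) hEc π s hs hker h e with h3 | h3
    · exact absurd h3 h1
    · exact absurd h3 h2
  · haveI : FiniteDimensional k K := Module.finite_of_finrank_pos (by rw [hK]; exact hn.pos)
    haveI : Finite L := Module.finite_of_finite k
    haveI : Finite K := Module.finite_of_finite k
    obtain ⟨f⟩ := FiniteField.nonempty_algHom_of_finrank_dvd (F := k) (K := L) (L := K) (by rw [h, hK])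
    let ef : L ≃ₐ[k] K := AlgEquiv.ofBijective f ⟨f.toRingHom.injective,
      (LinearMap.injective_iff_surjective_of_finrank_eq_finrank (f := f.toLinearMap) (by rw [h, hK])).1
        f.toRingHom.injective⟩
    refine ⟨ef.toAlgHom.comp π, s.comp ef.symm.toAlgHom, fun a => ?_, fun x hx => hker x ?_⟩
    · simp [hs]
    · exact ef.injective (by simpa using hx)

/-- The constants are the only endomorphisms of an invertible module. -/
theorem end_invertible_bijective [Finite k] [IsIntegral X] (O : Spec (CommRingCat.of k) ⟶ X)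
    (hO : O ≫ (X ↘ Spec (CommRingCat.of k)) = 𝟙 _) {L : X.Modules} (hL : PicF.IsInvertible L) :
    Function.Bijective (algebraMap k (End L)) := by
  haveI := H29RR.isNoetherian_of_proper (k := k) (X := X)
  have hr := H29RR.rank_one_of_isInvertible hL
  have hc := H29RR.isCoh_of_rank hr
  have h0 : ¬ IsZero L := H29RR.not_isZero_of_rank (k := k) hr one_pos
  haveI := nontrivial_end h0
  haveI : ConnectedSpace X := inferInstance
  have hind : ¬ IsZero L ∧ ∀ E₁ E₂ : X.Modules, Nonempty (L ≅ E₁ ⊞ E₂) → IsZero E₁ ∨ IsZero E₂ :=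
    H23KS.indec_invertible hL
  obtain ⟨F, _, _, _, π, s, hs, hker⟩ := exists_residue_end (k := k) hc hind
  have h1 : Module.finrank k F = 1 := Nat.dvd_one.1 (finrank_dvd_rank O hO hr F s)
  have hinj : ∀ x : End L, π x = 0 → x = 0 := fun x hx => by
    by_contra hne
    obtain ⟨N, hN⟩ := hker x hx
    haveI : Mono (x : L ⟶ L) := (H29RR.mono_of_ne_zero hL hL hne).1
    have : ∀ m : ℕ, x ^ m ≠ 0 := fun m => by
      induction m with
      | zero => exact one_ne_zero
      | succ m ih => exact fun h => ih ((cancel_mono (x : L ⟶ L)).1 (by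
          rw [pow_succ'] at h; exact h.trans zero_comp.symm))
    exact this N hN
  refine ⟨(algebraMap k (End L)).injective, fun x => ?_⟩
  obtain ⟨c, hc'⟩ := (LinearMap.injective_iff_surjective_of_finrank_eq_finrank (f := Algebra.linearMap k F)
    (by rw [Module.finrank_self, h1])).1 (algebraMap k F).injective (π x)
  exact ⟨c, (sub_eq_zero.1 (hinj _ (by rw [map_sub, AlgHom.commutes]; exact sub_eq_zero.2 hc'.symm))).symm⟩

section Split

variable {K : Type u} [Field K] [Algebra k K] [FiniteDimensional k K] [IsGalois k K]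
  {X' : Scheme.{u}} [X'.Over (Spec (CommRingCat.of K))] [IsProper (X' ↘ Spec (CommRingCat.of K))] [IsIntegral X']
  {q : X' ⟶ X}
  (hsq : IsPullback q (X' ↘ Spec (CommRingCat.of K)) (X ↘ Spec (CommRingCat.of k))
    (Spec.map (CommRingCat.ofHom (algebraMap k K))))
  {E : X.Modules} (π : End E →ₐ[k] K) (s : K →ₐ[k] End E) (hs : ∀ a, π (s a) = a)
  (Φ : K ⊗[k] End E ≃ₐ[K] End ((Scheme.Modules.pullback q).obj E))

include hs in
/-- The conjugate summands. -/
theorem exists_conjugates {n : ℕ} (hK : Module.finrank k K = n) (hE : FlatMod.IsFinLocFreeOfRank n E) :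
    ∃ (Y : (K ≃ₐ[k] K) → X'.Modules) (i : ∀ g, Y g ⟶ (Scheme.Modules.pullback q).obj E)
      (r : ∀ g, (Scheme.Modules.pullback q).obj E ⟶ Y g) (ν : Fin n ≃ (K ≃ₐ[k] K)),
      (∀ g, PicF.IsInvertible (Y g)) ∧ (∀ g, i g ≫ r g = 𝟙 (Y g)) ∧ (∀ g, r g ≫ i g = Φ (idem s g)) ∧
      Nonempty ((Scheme.Modules.pullback q).obj E ≅ ∐ fun a => Y (ν a)) := by
  classical
  haveI := H29RR.isNoetherian_of_proper (k := K) (X := X')
  let F := (Scheme.Modules.pullback q).obj E
  have hF : FlatMod.IsFinLocFreeOfRank n F := H26Gr.isFinLocFreeOfRank_pullback q hE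
  have hcard : Fintype.card (K ≃ₐ[k] K) = n := by
    rw [← Nat.card_eq_fintype_card, IsGalois.card_aut_eq_finrank, hK]
  let ν : Fin n ≃ (K ≃ₐ[k] K) := (Fintype.equivFinOfCardEq hcard).symm
  obtain ⟨Z, i', r', h1, h2, ⟨eZ⟩⟩ := exists_summands (fun a : Fin n => Φ (idem s (ν a)))
    (fun a => by rw [← map_mul, idem_mul_self]) (fun a b hab => by
      rw [← map_mul, idem_mul_of_ne s (ν.injective.ne hab), map_zero])
    (by rw [← map_sum, Equiv.sum_comp ν (fun g => idem s g), sum_idem, map_one])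
  choose d hd using fun a => H22Alg.KModel.exists_rank
    (H23KS.isFinLocFree_of_retract (H29RR.locFree_of_rank hF) (i' a) (r' a) (h1 a))
  have hd1 : ∀ a, 1 ≤ d a := fun a => by
    rcases Nat.eq_zero_or_pos (d a) with h | h
    · exfalso
      have hz : IsZero (Z a) := H29RR.isZero_of_rank_zero (h ▸ hd a)
      have h3 : Φ (idem s (ν a)) = 0 := by
        rw [← h2 a, hz.eq_of_tgt (r' a) 0, zero_comp]
      have h4 := congrArg (fun z => red π (Φ.symm z) (ν a)) h3
      rw [AlgEquiv.symm_apply_apply, map_zero, map_zero, red_idem π s hs, Pi.single_eq_same, Pi.zero_apply] at h4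
      exact one_ne_zero h4
    · exact h
  let eC : F ≅ ∐ Z := eZ ≪≫ biproduct.isoCoproduct Z
  have hsum : ∑ a, d a = n := by
    have hx := H17.ConormalSum.finrank_sigma_stalk Z (genericPoint X') d hd
    have hy := H17.ConormalSum.finrank_stalk' (H26Gr.isFinLocFreeOfRank_of_iso eC hF) (genericPoint X')
    exact hx.2.2.symm.trans hy.2.2
  have hd1' : ∀ a, d a = 1 := fun a => by
    by_contra hne
    have : ∑ _a : Fin n, 1 < ∑ a, d a :=
      Finset.sum_lt_sum (fun b _ => hd1 b) ⟨a, Finset.mem_univ a, by have := hd1 a; omega⟩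
    simp only [Finset.sum_const, Finset.card_univ, Fintype.card_fin, smul_eq_mul, mul_one] at this
    omega
  refine ⟨fun g => Z (ν.symm g), fun g => i' (ν.symm g), fun g => r' (ν.symm g), ν,
    fun g => H22Alg.PB.isInvertible_of_rank_one ((hd1' _) ▸ hd _), fun g => h1 _, fun g => ?_, ⟨?_⟩⟩
  · exact (h2 (ν.symm g)).trans (congrArg (fun z => Φ (idem s z)) (ν.apply_symm_apply g))
  · exact eC ≪≫ Sigma.mapIso fun a => eqToIso (congrArg Z (ν.symm_apply_apply a).symm)

variable {Y : (K ≃ₐ[k] K) → X'.Modules} {i : ∀ g, Y g ⟶ (Scheme.Modules.pullback q).obj E}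
  {r : ∀ g, (Scheme.Modules.pullback q).obj E ⟶ Y g} (hir : ∀ g, i g ≫ r g = 𝟙 (Y g))
  (hri : ∀ g, r g ≫ i g = Φ (idem s g))

include hs hir hri in
/-- The conjugate summands are pairwise non-isomorphic. -/
theorem eq_of_iso {g h : K ≃ₐ[k] K} (φ : Y g ≅ Y h) : g = h := by
  classical
  by_contra hne
  let a : End ((Scheme.Modules.pullback q).obj E) := r g ≫ φ.hom ≫ i h
  let b : End ((Scheme.Modules.pullback q).obj E) := r h ≫ φ.inv ≫ i g
  have hab : b * a = Φ (idem s g) := by
    show (r g ≫ φ.hom ≫ i h) ≫ (r h ≫ φ.inv ≫ i g) = _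
    rw [← hri g]
    simp only [Category.assoc, reassoc_of% hir h, Iso.hom_inv_id_assoc]
  have hag : a * Φ (idem s g) = a := by
    show Φ (idem s g) ≫ (r g ≫ φ.hom ≫ i h) = _
    rw [← hri g]
    simp only [Category.assoc, reassoc_of% hir g]
    rfl
  have hah : Φ (idem s h) * a = a := by
    show (r g ≫ φ.hom ≫ i h) ≫ Φ (idem s h) = _
    rw [← hri h]
    simp only [Category.assoc, reassoc_of% hir h]
    rfl
  let ρ := (red π).comp Φ.symm.toAlgHom
  have hρ : ∀ x, ρ (Φ (idem s x)) = Pi.single x 1 := fun x => by simp [ρ, red_idem π s hs]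
  have ha : ρ a = 0 := funext fun j => by
    have h1 := congrFun (congrArg ρ hag) j
    have h2 := congrFun (congrArg ρ hah) j
    rw [map_mul, Pi.mul_apply, hρ] at h1 h2
    rcases eq_or_ne j g with rfl | hj
    · rw [Pi.single_eq_of_ne hne, zero_mul] at h2
      exact h2.symm
    · rw [Pi.single_eq_of_ne hj, mul_zero] at h1
      exact h1.symm
  have h4 := congrFun (congrArg ρ hab) g
  rw [map_mul, ha, mul_zero, hρ, Pi.single_eq_same, Pi.zero_apply] at h4
  exact zero_ne_one h4

include hsq hir in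
/-- No conjugate summand comes from the base. -/
theorem not_iso_pullback [IsIntegral X] {n : ℕ} (hn : 1 < n) (hE : FlatMod.IsFinLocFreeOfRank n E)
    (hind : ∀ E₁ E₂ : X.Modules, Nonempty (E ≅ E₁ ⊞ E₂) → IsZero E₁ ∨ IsZero E₂)
    (g : K ≃ₐ[k] K) {L : X.Modules} (hL : PicF.IsInvertible L)
    (φ : Y g ≅ (Scheme.Modules.pullback q).obj L) : False := by
  classical
  haveI := H29RR.isNoetherian_of_proper (k := k) (X := X)
  have hr := H29RR.rank_one_of_isInvertible hL
  have hLc := H29RR.isCoh_of_rank hr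
  have hEc := H29RR.isCoh_of_rank hE
  have hL0 : ¬ IsZero L := H29RR.not_isZero_of_rank (k := k) hr one_pos
  obtain ⟨m, c, α, hα⟩ := exists_span_smul hsq hLc hEc (φ.inv ≫ i g)
  obtain ⟨p, d, β, hβ⟩ := exists_span_smul hsq hEc hLc (r g ≫ φ.hom)
  obtain ⟨l, hl⟩ := H23KS.exists_retraction (k := k) (K := K)
  have h1 : ∑ z : Fin m × Fin p, (c z.1 * d z.2) • (Scheme.Modules.pullback q).map (α z.1 ≫ β z.2) =
      (Scheme.Modules.pullback q).map (𝟙 L) := by
    rw [CategoryTheory.Functor.map_id]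
    refine Eq.trans ?_ (show (φ.inv ≫ i g) ≫ (r g ≫ φ.hom) = 𝟙 _ by
      simp only [Category.assoc, reassoc_of% hir g, Iso.inv_hom_id])
    rw [hα, hβ, Preadditive.sum_comp, Fintype.sum_prod_type]
    refine Finset.sum_congr rfl fun a _ => ?_
    rw [Preadditive.comp_sum]
    refine Finset.sum_congr rfl fun b _ => ?_
    rw [Functor.map_comp, Linear.smul_comp, Linear.comp_smul, smul_smul]
  have h2 := eq_sum_of_map_smul hsq hLc l hl Finset.univ _ _ _ h1
  have hloc : H7KS.IsLocalEnd L := by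
    haveI : Module.Finite k (End L) := H29RR.finite_hom (k := k) hLc hLc
    exact H7KS.isLocalEnd_of_indecomposable k hL0 (H23KS.indec_invertible hL).2
  obtain ⟨z, -, hz⟩ := hloc.exists_isIso_of_sum Finset.univ
    (fun z : Fin m × Fin p => l (c z.1 * d z.2) • (α z.1 ≫ β z.2)) (by rw [← h2]; infer_instance)
  let v : E ⟶ L := (l (c z.1 * d z.2) • β z.2) ≫ inv (l (c z.1 * d z.2) • (α z.1 ≫ β z.2))
  have huv : α z.1 ≫ v = 𝟙 L := by
    simp only [v, ← Category.assoc, Linear.comp_smul, IsIso.hom_inv_id]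
  obtain ⟨B, D, ψ, hψ⟩ := H23KS.exists_split (v ≫ α z.1) (by simp [reassoc_of% huv])
  let w : B ≅ L := ⟨biprod.inl ≫ ψ.inv ≫ v, α z.1 ≫ ψ.hom ≫ biprod.fst, by
    simp only [Category.assoc]; rw [← Category.assoc v, hψ]; simp, by
    simp only [Category.assoc]
    have := congrArg (fun t => α z.1 ≫ t ≫ v) hψ
    simp only [Category.assoc, huv, reassoc_of% huv] at this
    rw [← this]⟩
  rcases hind B D ⟨ψ⟩ with hB | hD
  · exact hL0 (hB.of_iso w.symm)
  · let eEL : E ≅ L := ψ ≪≫
      { hom := biprod.fst, inv := biprod.inl, hom_inv_id := by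
          refine biprod.hom_ext _ _ (by simp) (hD.eq_of_tgt _ _), inv_hom_id := by simp } ≪≫ w
    have hb := H17.ConormalSum.finrank_stalk' (H26Gr.isFinLocFreeOfRank_of_iso eEL hE) (genericPoint X)
    have ha := H17.ConormalSum.finrank_stalk' hr (genericPoint X)
    have := hb.2.2.symm.trans ha.2.2
    omega

include hs hir hri in
/-- The endomorphisms are the residue field. -/
theorem bijective_residue (hEc : Coh.IsCoh E) (hker : ∀ x, π x = 0 → IsNilpotent x)
    (hY : ∀ g, PicF.IsInvertible (Y g)) : Function.Bijective π := by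
  haveI := H29RR.isNoetherian_of_proper (k := K) (X := X')
  haveI : Module.Finite k (End E) := H29RR.finite_hom (k := k) hEc hEc
  refine bijective_of_paths π s hs hker fun g h l a b hga hhb => ?_
  have hmid : ∀ (x y : K ≃ₐ[k] K) (t : K ⊗[k] End E),
      Φ (idem s x * t * idem s y) = r y ≫ (i y ≫ Φ t ≫ r x) ≫ i x := fun x y t => by
    rw [map_mul, map_mul]
    show Φ (idem s y) ≫ Φ t ≫ Φ (idem s x) = _
    rw [← hri x, ← hri y]
    simp only [Category.assoc]
  have hne : ∀ (x y : K ≃ₐ[k] K) (t : K ⊗[k] End E), idem s x * t * idem s y ≠ 0 →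
      Mono (i y ≫ Φ t ≫ r x) := fun x y t ht => by
    refine (H29RR.mono_of_ne_zero (hY y) (hY x) fun h0 => ht (Φ.injective ?_)).1
    rw [hmid, h0, map_zero]
    simp only [zero_comp, comp_zero]
  haveI := hne g h a hga
  haveI := hne h l b hhb
  intro h0
  have h1 := congrArg (fun z => i l ≫ Φ z ≫ r g) h0
  rw [map_zero, show idem s g * a * idem s h * b * idem s l = (idem s g * a * idem s h) * (idem s h * b * idem s l) by
    simp only [mul_assoc]; rw [← mul_assoc (idem s h) (idem s h), idem_mul_self]] at h1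
  rw [show Φ (idem s g * a * idem s h * (idem s h * b * idem s l)) =
      (r l ≫ (i l ≫ Φ b ≫ r h) ≫ i h) ≫ (r h ≫ (i h ≫ Φ a ≫ r g) ≫ i g) from by
    rw [← hmid, ← hmid, map_mul]; rfl] at h1
  simp only [Category.assoc, reassoc_of% hir l, reassoc_of% hir h, hir g, Category.comp_id] at h1
  have h2 : (i l ≫ Φ b ≫ r h) ≫ (i h ≫ Φ a ≫ r g) = 0 := by
    simp only [Category.assoc]
    refine h1.trans ?_
    show i l ≫ (0 : _ ⟶ _) ≫ r g = 0
    simp
  have h3 : i l ≫ Φ b ≫ r h = 0 := (cancel_mono (i h ≫ Φ a ≫ r g)).1 (h2.trans zero_comp.symm)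
  exact hhb (Φ.injective (by rw [hmid, h3, map_zero]; simp only [zero_comp, comp_zero]))

end Split

end Groth.Agent.H7VB
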