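import Groth.Agent.H7VB.Alg
import Groth.Agent.H7KS.Weil
import Groth.Agent.H23SB.EndAlg
import Groth.Agent.H29RR.Slope
import Groth.Agent.H29RR.EvalPoint
import Groth.Agent.H25Par.GPSimple
import Groth.Agent.H17.ConormalSum.Basic
import Groth.Agent.H22Alg.KModel
import Groth.Agent.H26Gr.GrSub

/-!
# Endomorphisms of bundles after a field extension
-/

set_option autoImplicit false
set_option linter.style.haveILetI false
set_option linter.unusedSectionVars false
set_option backward.isDefEq.respectTransparency false

universe u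

open CategoryTheory CategoryTheory.Limits AlgebraicGeometry TensorProduct

namespace Groth.Agent.H7VB

open Groth.Agent

attribute [local instance] Abelian.hasFiniteBiproducts

section Summands

variable {C : Type*} [Category C] [Abelian C]

/-- A complete family of orthogonal idempotents splits an object. -/
theorem exists_summands {ι : Type} [Fintype ι] [DecidableEq ι] {F : C} (e : ι → End F)
    (he : ∀ a, e a * e a = e a) (horth : ∀ a b, a ≠ b → e a * e b = 0) (hsum : ∑ a, e a = 1) :
    ∃ (Y : ι → C) (i : ∀ a, Y a ⟶ F) (r : ∀ a, F ⟶ Y a),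
      (∀ a, i a ≫ r a = 𝟙 (Y a)) ∧ (∀ a, r a ≫ i a = e a) ∧ Nonempty (F ≅ ⨁ Y) := by
  choose Y i r h1 h2 using fun a => IsIdempotentComplete.idempotents_split F (e a) (he a)
  refine ⟨Y, i, r, h1, h2, ⟨{ hom := biproduct.lift r, inv := biproduct.desc i, hom_inv_id := ?_, inv_hom_id := ?_ }⟩⟩
  · rw [biproduct.lift_desc]
    simp only [h2]
    exact hsum
  · refine biproduct.hom_ext' _ _ fun a => biproduct.hom_ext _ _ fun b => ?_
    simp only [biproduct.ι_desc_assoc, Category.assoc, biproduct.lift_π, Category.comp_id]
    rcases eq_or_ne a b with rfl | hab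
    · rw [h1, biproduct.ι_π_self]
    · rw [biproduct.ι_π_ne _ hab]
      calc i a ≫ r b = (i a ≫ r a) ≫ (i a ≫ r b) ≫ (i b ≫ r b) := by rw [h1, h1, Category.id_comp, Category.comp_id]
        _ = i a ≫ ((r a ≫ i a) ≫ (r b ≫ i b)) ≫ r b := by simp only [Category.assoc]
        _ = 0 := by
          rw [h2, h2]
          have : (e a : F ⟶ F) ≫ e b = 0 := horth b a hab.symm
          rw [this, zero_comp, comp_zero]

end Summands

variable {k : Type u} [Field k] {K : Type u} [Field K] [Algebra k K] {X : Scheme.{u}}
  [X.Over (Spec (CommRingCat.of k))] [IsProper (X ↘ Spec (CommRingCat.of k))]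
  {X' : Scheme.{u}} [X'.Over (Spec (CommRingCat.of K))] {q : X' ⟶ X}
  (hsq : IsPullback q (X' ↘ Spec (CommRingCat.of K)) (X ↘ Spec (CommRingCat.of k))
    (Spec.map (CommRingCat.ofHom (algebraMap k K))))

theorem smul_eq_smulMod_comp {M N : X.Modules} (c : k) (φ : M ⟶ N) : c • φ = Formal.smulMod k M c ≫ φ := rfl

include hsq in
theorem pullback_map_smul {M N : X.Modules} (c : k) (φ : M ⟶ N) :
    (Scheme.Modules.pullback q).map (c • φ) = algebraMap k K c • (Scheme.Modules.pullback q).map φ := by
  show (Scheme.Modules.pullback q).map (Formal.smulMod k M c ≫ φ) =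
    Formal.smulMod K _ (algebraMap k K c) ≫ (Scheme.Modules.pullback q).map φ
  rw [Functor.map_comp, H23SB.map_smulMod_pullback hsq]

include hsq in
/-- Homomorphisms after extension of the base field are combinations of extended ones. -/
theorem exists_span_smul {M N : X.Modules} (hM : Coh.IsCoh M) (hN : Coh.IsCoh N)
    (ψ : (Scheme.Modules.pullback q).obj M ⟶ (Scheme.Modules.pullback q).obj N) :
    ∃ (n : ℕ) (c : Fin n → K) (φ : Fin n → (M ⟶ N)), ψ = ∑ i, c i • (Scheme.Modules.pullback q).map (φ i) := by
  haveI := hM.1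
  haveI := hN.1
  haveI : CompactSpace X := QuasiCompact.compactSpace_of_compactSpace (X ↘ Spec (CommRingCat.of k))
  obtain ⟨n, c, φ, h⟩ := H23KS.exists_span hsq hM.2 ψ
  refine ⟨n, c, φ, h.trans (Finset.sum_congr rfl fun i _ => ?_)⟩
  exact (H23KS.smulMod_comm K _ (c i)).symm

include hsq in
/-- A retraction of `k → K` recovers a homomorphism from a combination of extended ones. -/
theorem eq_sum_of_map_smul {M N : X.Modules} (hN : Coh.IsCoh N) (l : K →ₗ[k] k) (hl : l 1 = 1) {ι : Type*}
    (s : Finset ι) (c : ι → K) (x : ι → (M ⟶ N)) (y : M ⟶ N)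
    (h : ∑ i ∈ s, c i • (Scheme.Modules.pullback q).map (x i) = (Scheme.Modules.pullback q).map y) :
    y = ∑ i ∈ s, l (c i) • x i := by
  haveI := hN.1
  rw [H23KS.eq_sum_of_map_eq hsq l hl s c x y ((Finset.sum_congr rfl fun i _ =>
    (H23KS.smulMod_comm K _ (c i)).symm).trans h)]
  exact Finset.sum_congr rfl fun i _ => (H23KS.smulMod_comm k _ _).symm

include hsq in
theorem pullback_map_injective {M N : X.Modules} (hN : Coh.IsCoh N) (y : M ⟶ N)
    (h : (Scheme.Modules.pullback q).map y = 0) : y = 0 := by
  haveI := hN.1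
  exact H23KS.map_injective hsq y h

include hsq in
/-- The endomorphism ring after extension of the base field. -/
theorem exists_endEquiv {E : X.Modules} (hE : Coh.IsCoh E) :
    ∃ Φ : K ⊗[k] End E ≃ₐ[K] End ((Scheme.Modules.pullback q).obj E),
      ∀ f : End E, Φ ((1 : K) ⊗ₜ[k] f) = (Scheme.Modules.pullback q).map f := by
  classical
  let F := (Scheme.Modules.pullback q).obj E
  letI : Algebra k (End F) := Algebra.compHom _ (algebraMap k K)
  haveI : IsScalarTower k K (End F) := IsScalarTower.of_algebraMap_eq fun _ => rfl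
  let ψ : End E →ₐ[k] End F := AlgHom.ofLinearMap
    { toFun := fun f => End.of ((Scheme.Modules.pullback q).map (End.asHom f))
      map_add' := fun f g => Functor.map_add _
      map_smul' := fun c f => (pullback_map_smul hsq c (End.asHom f)).trans rfl }
    ((Scheme.Modules.pullback q).map_id E) fun f g => Functor.map_comp _ _ _
  let Φ := Algebra.TensorProduct.lift (Algebra.ofId K (End F)) ψ fun r a => Algebra.commutes r _
  have htm : ∀ (c : K) (f : End E), Φ (c ⊗ₜ[k] f) = c • ψ f := fun c f => by
    rw [Algebra.TensorProduct.lift_tmul, Algebra.smul_def]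
    rfl
  have hinj : Function.Injective Φ := by
    refine (injective_iff_map_eq_zero Φ).2 fun z hz => ?_
    let b := Module.Basis.ofVectorSpace k K
    let eq := TensorProduct.equivFinsuppOfBasisLeft (N := End E) b
    apply eq.injective
    rw [map_zero]
    set v := eq z with hv
    have hzsum : z = ∑ i ∈ v.support, b i ⊗ₜ[k] v i :=
      (eq.symm_apply_apply z).symm.trans (TensorProduct.equivFinsuppOfBasisLeft_symm_apply b v)
    ext i
    by_contra hne
    have hi : i ∈ v.support := Finsupp.mem_support_iff.2 hne
    let l : K →ₗ[k] k := (b.coord i).comp (LinearMap.mulLeft k (b i))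
    have hl : l 1 = 1 := by simp [l]
    have h0 : ∑ j ∈ v.support, (b j * (b i)⁻¹) • (Scheme.Modules.pullback q).map (v j : E ⟶ E) =
        (Scheme.Modules.pullback q).map (0 : E ⟶ E) := by
      rw [Functor.map_zero]
      have h := congrArg (fun t : End F => (b i)⁻¹ • t) hz
      rw [hzsum, map_sum, Finset.smul_sum, smul_zero] at h
      refine Eq.trans (Finset.sum_congr rfl fun j _ => ?_) h
      rw [htm, smul_smul, mul_comm]
      rfl
    have h1 := eq_sum_of_map_smul hsq hE l hl v.support (fun j => b j * (b i)⁻¹) (fun j => (v j : E ⟶ E)) 0 h0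
    have hlj : ∀ j, l (b j * (b i)⁻¹) = if j = i then 1 else 0 := fun j => by
      show b.coord i (b i * (b j * (b i)⁻¹)) = _
      rw [mul_comm (b j), ← mul_assoc, mul_inv_cancel₀ (b.ne_zero i), one_mul, Module.Basis.coord_apply, b.repr_self,
        Finsupp.single_apply]
    have h2 : (0 : End E) = ∑ j ∈ v.support, l (b j * (b i)⁻¹) • v j := h1
    simp only [hlj, ite_smul, one_smul, zero_smul, Finset.sum_ite_eq', hi, if_true] at h2
    exact hne h2.symm
  have hsurj : Function.Surjective Φ := fun φ => by
    obtain ⟨n, c, x, hx⟩ := exists_span_smul hsq hE hE (φ : F ⟶ F)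
    refine ⟨∑ i, c i ⊗ₜ[k] (x i : End E), ?_⟩
    rw [map_sum]
    refine Eq.trans (Finset.sum_congr rfl fun i _ => ?_) hx.symm
    exact htm _ _
  refine ⟨AlgEquiv.ofBijective Φ ⟨hinj, hsurj⟩, fun f => ?_⟩
  show Φ ((1 : K) ⊗ₜ[k] f) = _
  rw [htm, one_smul]
  rfl

/-- A rational point is a closed point with trivial residue extension, and its ideal is that of the point. -/
theorem section_point (σ : Spec (CommRingCat.of k) ⟶ X) (hσ : σ ≫ (X ↘ Spec (CommRingCat.of k)) = 𝟙 _) :
    letI := fun x : X => Curv2.resAlgebra k X x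
    ∃ x : X, Module.finrank k (X.residueField x) = 1 := by
  letI := fun x : X => Curv2.resAlgebra k X x
  let x := σ (IsLocalRing.closedPoint k)
  let d := Scheme.descResidueField (Scheme.stalkClosedPointTo σ)
  have hd : Spec.map d ≫ X.fromSpecResidueField x = σ :=
    Scheme.descResidueField_stalkClosedPointTo_fromSpecResidueField k X σ
  have hd' : ∀ c : k, d.hom (algebraMap k (X.residueField x) c) = c := by
    intro c
    have h2 : CommRingCat.ofHom (algebraMap k (X.residueField x)) ≫ d = 𝟙 _ := by
      refine Spec.map_injective ?_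
      rw [Spec.map_comp, Spec.map_id, ← hσ, ← hd, Category.assoc]
      congr 1
      exact (H22Alg.VarDim.fromSpecResidueField_over k X x).symm
    exact RingHom.congr_fun (congrArg CommRingCat.Hom.hom h2) c
  have hbij : Function.Bijective d.hom := ⟨d.hom.injective, fun c => ⟨_, hd' c⟩⟩
  let e : X.residueField x ≃ₐ[k] k := AlgEquiv.ofBijective { d.hom with commutes' := hd' } hbij
  exact ⟨x, e.toLinearEquiv.finrank_eq.trans (Module.finrank_self k)⟩

theorem stalkMap_eq (x : X) : H25Par.constStalk (k := k) x = Curv2.stalkMap k X x := rfl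

/-- A field acting on a bundle has degree dividing the rank, in the presence of a rational point. -/
theorem finrank_dvd_rank (O : Spec (CommRingCat.of k) ⟶ X) (hO : O ≫ (X ↘ Spec (CommRingCat.of k)) = 𝟙 _)
    {W : X.Modules} {n : ℕ} (hW : FlatMod.IsFinLocFreeOfRank n W) (L : Type u) [Field L] [Algebra k L]
    (s : L →ₐ[k] End W) : Module.finrank k L ∣ n := by
  letI := fun x : X => Curv2.resAlgebra k X x
  obtain ⟨x, h1⟩ := section_point O hO
  obtain ⟨hfree, hfin, hrk⟩ := H17.ConormalSum.finrank_stalk' hW x
  haveI := hfree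
  haveI := hfin
  let S := X.presheaf.stalk x
  let κ := X.residueField x
  letI : Algebra S κ := (X.residue x).hom.toAlgebra
  let V := κ ⊗[S] (W.presheaf.stalk x)
  have hV : Module.finrank κ V = n := by rw [Module.finrank_baseChange]; exact hrk
  letI : Algebra k κ := Curv2.resAlgebra k X x
  letI : Module k V := Module.compHom V (algebraMap k κ)
  haveI : IsScalarTower k κ V := IsScalarTower.of_algebraMap_smul fun _ _ => rfl
  let ρ : L →+* Module.End κ V :=
    { toFun := fun a => (H06Mod.stalkLin (End.asHom (s a)) x).baseChange κ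
      map_one' := by
        rw [map_one]
        refine TensorProduct.AlgebraTensorModule.curry_injective (LinearMap.ext fun c => LinearMap.ext fun v => ?_)
        show c ⊗ₜ[S] H06Mod.stalkLin (𝟙 W) x v = c ⊗ₜ[S] v
        rw [H23KS.stalkLin_id]
      map_mul' := fun a b => by
        rw [map_mul]
        refine TensorProduct.AlgebraTensorModule.curry_injective (LinearMap.ext fun c => LinearMap.ext fun v => ?_)
        show c ⊗ₜ[S] H06Mod.stalkLin (End.asHom (s b) ≫ End.asHom (s a)) x v = _
        rw [H29RR.stalkLin_comp]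
        rfl
      map_zero' := by
        rw [map_zero]
        refine TensorProduct.AlgebraTensorModule.curry_injective (LinearMap.ext fun c => LinearMap.ext fun v => ?_)
        show c ⊗ₜ[S] H06Mod.stalkLin (0 : W ⟶ W) x v = 0
        have := H29RR.stalkLin_add (0 : W ⟶ W) 0 x v
        rw [add_zero, left_eq_add] at this
        rw [this, tmul_zero]
      map_add' := fun a b => by
        rw [map_add]
        refine TensorProduct.AlgebraTensorModule.curry_injective (LinearMap.ext fun c => LinearMap.ext fun v => ?_)
        show c ⊗ₜ[S] H06Mod.stalkLin (End.asHom (s a) + End.asHom (s b)) x v = _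
        rw [H29RR.stalkLin_add, tmul_add]
        rfl }
  have hρ : ∀ (c : k) (v : V), ρ (algebraMap k L c) v = c • v := fun c v => by
    induction v using TensorProduct.induction_on with
    | zero => simp
    | tmul a w =>
      show a ⊗ₜ[S] H06Mod.stalkLin (End.asHom (s (algebraMap k L c))) x w = algebraMap k κ c • (a ⊗ₜ[S] w)
      rw [s.commutes, Algebra.algebraMap_eq_smul_one]
      have h2 : H06Mod.stalkLin (End.asHom (c • (1 : End W))) x w = Curv2.stalkMap k X x c • w := by
        show H06Mod.stalkLin (Formal.smulMod k W c ≫ 𝟙 W) x w = _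
        rw [Category.comp_id, H25Par.stalkLin_smulMod, stalkMap_eq]
      rw [h2, tmul_smul, smul_tmul', smul_tmul']
      congr 1
    | add v w hv hw => rw [map_add, hv, hw, smul_add]
  letI : Module L V := Module.compHom V ρ
  haveI : IsScalarTower k L V := IsScalarTower.of_algebraMap_smul fun c v => hρ c v
  have h3 := Module.finrank_mul_finrank k L V
  have h4 := Module.finrank_mul_finrank k κ V
  rw [h1, one_mul, hV] at h4
  exact ⟨Module.finrank L V, by rw [h3, ← h4]⟩

end Groth.Agent.H7VB
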