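import Groth.Agent.H29RR.Common
import Mathlib

/-!
# Counting automorphisms in linear categories over a finite field
-/

set_option autoImplicit false
set_option linter.style.haveILetI false
set_option linter.unusedSectionVars false

universe v u w

open CategoryTheory CategoryTheory.Limits

namespace Groth.Agent.H7VB

section Rings

/-- Units of a ring with a map to another ring with nilpotent kernel and a section. -/
theorem card_units_of_nilpotent_ker {R S : Type*} [Ring R] [Ring S] [Finite S] (χ : R →+* S)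
    (hsurj : Function.Surjective χ) (hker : ∀ x, χ x = 0 → IsNilpotent x) :
    Nat.card Rˣ = Nat.card Sˣ * Nat.card {x : R // χ x = 0} := by
  classical
  have hu : ∀ x : R, IsUnit (χ x) → IsUnit x := fun x hx => by
    obtain ⟨y, hy⟩ := hsurj ↑hx.unit⁻¹
    have h1 : IsUnit (x * y) := by
      have h : IsNilpotent (1 - x * y) := hker _ (by rw [map_sub, map_one, map_mul, hy, hx.mul_val_inv, sub_self])
      simpa using h.isUnit_one_sub
    have h2 : IsUnit (y * x) := by
      have h : IsNilpotent (1 - y * x) := hker _ (by rw [map_sub, map_one, map_mul, hy, hx.val_inv_mul, sub_self])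
      simpa using h.isUnit_one_sub
    obtain ⟨a, ha⟩ := h1
    obtain ⟨b, hb⟩ := h2
    have hr : x * (y * ↑a⁻¹) = 1 := by rw [← mul_assoc, ← ha, a.mul_inv]
    have hl : (↑b⁻¹ * y) * x = 1 := by rw [mul_assoc, ← hb, b.inv_mul]
    exact ⟨⟨x, y * ↑a⁻¹, hr, left_inv_eq_right_inv hl hr ▸ hl⟩, rfl⟩
  choose sec hsec using hsurj
  let e : Rˣ ≃ Sˣ × {x : R // χ x = 0} :=
    { toFun := fun u => (Units.map χ.toMonoidHom u, ⟨(u : R) - sec (χ u), by rw [map_sub, hsec, sub_self]⟩)
      invFun := fun p => (hu ((p.2 : R) + sec (p.1 : S)) (by rw [map_add, p.2.2, zero_add, hsec]; exact p.1.isUnit)).unit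
      left_inv := fun u => Units.ext (by
        show (u : R) - sec (χ u) + sec (χ u) = u
        exact sub_add_cancel _ _)
      right_inv := fun p => by
        have h : χ ((p.2 : R) + sec (p.1 : S)) = p.1 := by rw [map_add, p.2.2, zero_add, hsec]
        refine Prod.ext (Units.ext h) (Subtype.ext ?_)
        show (p.2 : R) + sec (p.1 : S) - sec (χ ((p.2 : R) + sec (p.1 : S))) = _
        rw [h, add_sub_cancel_right] }
  rw [Nat.card_congr e, Nat.card_prod]

end Rings

variable {C : Type u} [Category.{v} C] [Preadditive C] [HasFiniteBiproducts C]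

theorem card_aut_congr {A B : C} (e : A ≅ B) : Nat.card (Aut A) = Nat.card (Aut B) :=
  Nat.card_congr e.conjAut.toEquiv

theorem card_aut_eq_units (A : C) : Nat.card (Aut A) = Nat.card (End A)ˣ :=
  Nat.card_congr (Aut.unitsEndEquivAut A).symm.toEquiv

/-- Automorphisms of a sum of objects without homomorphisms between them. -/
theorem card_aut_biprod [HasBinaryBiproducts C] {A B : C} (hAB : ∀ f : A ⟶ B, f = 0) (hBA : ∀ f : B ⟶ A, f = 0) :
    Nat.card (Aut (A ⊞ B)) = Nat.card (Aut A) * Nat.card (Aut B) := by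
  let e : End (A ⊞ B) ≃* End A × End B :=
    { toFun := fun φ => (biprod.inl ≫ φ ≫ biprod.fst, biprod.inr ≫ φ ≫ biprod.snd)
      invFun := fun p => biprod.map (p.1 : A ⟶ A) (p.2 : B ⟶ B)
      left_inv := fun φ => by
        refine biprod.hom_ext' _ _ (biprod.hom_ext _ _ ?_ ?_) (biprod.hom_ext _ _ ?_ ?_)
        · simp
        · simpa using (hAB (biprod.inl ≫ (φ : A ⊞ B ⟶ A ⊞ B) ≫ biprod.snd)).symm
        · simpa using (hBA (biprod.inr ≫ (φ : A ⊞ B ⟶ A ⊞ B) ≫ biprod.fst)).symm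
        · simp
      right_inv := fun p => Prod.ext (by simp) (by simp)
      map_mul' := fun φ ψ => by
        have h1 : (ψ : A ⊞ B ⟶ A ⊞ B) = biprod.map (biprod.inl ≫ ψ ≫ biprod.fst) (biprod.inr ≫ ψ ≫ biprod.snd) := by
          refine biprod.hom_ext' _ _ (biprod.hom_ext _ _ ?_ ?_) (biprod.hom_ext _ _ ?_ ?_)
          · simp
          · simpa using hAB (biprod.inl ≫ (ψ : A ⊞ B ⟶ A ⊞ B) ≫ biprod.snd)
          · simpa using hBA (biprod.inr ≫ (ψ : A ⊞ B ⟶ A ⊞ B) ≫ biprod.fst)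
          · simp
        refine Prod.ext ?_ ?_
        · show biprod.inl ≫ (ψ ≫ φ) ≫ biprod.fst = (biprod.inl ≫ ψ ≫ biprod.fst) ≫ (biprod.inl ≫ φ ≫ biprod.fst)
          conv_lhs => rw [h1]
          simp only [Category.assoc, biprod.inl_map_assoc]
        · show biprod.inr ≫ (ψ ≫ φ) ≫ biprod.snd = (biprod.inr ≫ ψ ≫ biprod.snd) ≫ (biprod.inr ≫ φ ≫ biprod.snd)
          conv_lhs => rw [h1]
          simp only [Category.assoc, biprod.inr_map_assoc] }
  rw [card_aut_eq_units, card_aut_eq_units, card_aut_eq_units,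
    Nat.card_congr ((Units.mapEquiv e).trans MulEquiv.prodUnits).toEquiv, Nat.card_prod]

variable {k : Type w} [Field k] [Finite k] [Linear k C]

/-- The ring of endomorphisms of a power. -/
noncomputable def endPower (A : C) (n : ℕ) :
    End (⨁ fun _ : Fin n => A) ≃+* Matrix (Fin n) (Fin n) (End A) where
  toFun φ := Matrix.of fun i j => biproduct.ι (fun _ : Fin n => A) j ≫ φ ≫ biproduct.π _ i
  invFun M := biproduct.matrix fun j i => (M i j : A ⟶ A)
  left_inv φ := biproduct.hom_ext' _ _ fun j => biproduct.hom_ext _ _ fun i => by simp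
  right_inv M := by
    ext i j
    simp
  map_add' φ ψ := by
    ext i j
    exact (congrArg (biproduct.ι (fun _ : Fin n => A) j ≫ ·) (Preadditive.add_comp _ _ _ _ _ _)).trans
      (Preadditive.comp_add _ _ _ _ _ _)
  map_mul' φ ψ := by
    ext i j
    rw [Matrix.mul_apply]
    show biproduct.ι (fun _ : Fin n => A) j ≫ (ψ ≫ φ) ≫ biproduct.π _ i =
      ∑ l, (biproduct.ι (fun _ : Fin n => A) j ≫ ψ ≫ biproduct.π _ l) ≫
        (biproduct.ι (fun _ : Fin n => A) l ≫ φ ≫ biproduct.π _ i)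
    conv_lhs => rw [show ((ψ : (⨁ fun _ : Fin n => A) ⟶ _) ≫ φ) =
      ψ ≫ (∑ l, biproduct.π (fun _ : Fin n => A) l ≫ biproduct.ι (fun _ : Fin n => A) l) ≫ φ by rw [biproduct.total, Category.id_comp]]
    simp only [Preadditive.sum_comp, Preadditive.comp_sum, Category.assoc]

/-- The automorphism group of a power of an object with scalar endomorphisms. -/
theorem card_aut_power {A : C} (h : Function.Bijective (algebraMap k (End A))) (n : ℕ) :
    Nat.card (Aut (⨁ fun _ : Fin n => A)) = ∏ i : Fin n, (Nat.card k ^ n - Nat.card k ^ (i : ℕ)) := by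
  classical
  letI := Fintype.ofFinite k
  rw [card_aut_eq_units, Nat.card_congr (Units.mapEquiv ((endPower A n).trans
    (RingEquiv.ofBijective _ h).symm.mapMatrix).toMulEquiv).toEquiv, Nat.card_eq_fintype_card (α := k)]
  exact Matrix.card_GL_field n

theorem card_aut_scalar {A : C} (h : Function.Bijective (algebraMap k (End A))) :
    Nat.card (Aut A) = Nat.card k - 1 := by
  rw [card_aut_eq_units, ← Nat.card_units k,
    Nat.card_congr (Units.mapEquiv (RingEquiv.ofBijective _ h).toMulEquiv).toEquiv]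

variable [HasBinaryBiproducts C]

/-- A sum of two copies as a power. -/
noncomputable def pairIso (A : C) : A ⊞ A ≅ ⨁ fun _ : Fin 2 => A where
  hom := biproduct.lift fun a => if a = 0 then biprod.fst else biprod.snd
  inv := biprod.lift (biproduct.π (fun _ : Fin 2 => A) 0) (biproduct.π _ 1)
  hom_inv_id := biprod.hom_ext _ _ (by simp) (by simp)
  inv_hom_id := biproduct.hom_ext _ _ fun a => by fin_cases a <;> simp

/-- A sum of three copies as a power. -/
noncomputable def tripleIso (A : C) : (A ⊞ A) ⊞ A ≅ ⨁ fun _ : Fin 3 => A where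
  hom := biproduct.lift fun a => if a = 0 then biprod.fst ≫ biprod.fst else
    if a = 1 then biprod.fst ≫ biprod.snd else biprod.snd
  inv := biprod.lift (biprod.lift (biproduct.π (fun _ : Fin 3 => A) 0) (biproduct.π _ 1)) (biproduct.π _ 2)
  hom_inv_id := biprod.hom_ext _ _ (biprod.hom_ext _ _ (by simp) (by simp)) (by simp)
  inv_hom_id := biproduct.hom_ext _ _ fun a => by fin_cases a <;> simp

section Extension

variable {L F : C} (f : L ⟶ F) (g : F ⟶ L) (hfg : f ≫ g = 0) [Mono f] [Epi g]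
  (hlift : ∀ {W : C} (h : W ⟶ F), h ≫ g = 0 → ∃ a : W ⟶ L, a ≫ f = h)
  (hdesc : ∀ {W : C} (h : F ⟶ W), f ≫ h = 0 → ∃ a : L ⟶ W, g ≫ a = h)
  (hL : Function.Bijective (algebraMap k (End L))) (hs : ∀ σ : L ⟶ F, σ ≫ g ≠ 𝟙 L)
  (hr : ∀ ρ : F ⟶ L, f ≫ ρ ≠ 𝟙 L)

omit [HasBinaryBiproducts C] in
include hL in
theorem exists_scalar (φ : L ⟶ L) : ∃ c : k, φ = c • 𝟙 L := by
  obtain ⟨c, hc⟩ := hL.2 φ
  exact ⟨c, hc.symm.trans (Algebra.algebraMap_eq_smul_one c)⟩

omit [HasBinaryBiproducts C] in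
include hL in
theorem smul_id_inj {a b : k} (h : a • 𝟙 L = b • 𝟙 L) : a = b :=
  hL.1 (by rw [Algebra.algebraMap_eq_smul_one, Algebra.algebraMap_eq_smul_one]; exact h)

omit [HasBinaryBiproducts C] in
include hlift hL hs in
theorem exists_hom_left (h : L ⟶ F) : ∃ a : k, h = a • f := by
  obtain ⟨c, hc⟩ := exists_scalar hL (h ≫ g)
  rcases eq_or_ne c 0 with rfl | hc0
  · obtain ⟨a, rfl⟩ := hlift h (by rw [hc, zero_smul])
    obtain ⟨b, rfl⟩ := exists_scalar hL a
    exact ⟨b, by simp⟩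
  · exact absurd (by rw [Linear.smul_comp, hc, smul_smul, inv_mul_cancel₀ hc0, one_smul]) (hs (c⁻¹ • h))

omit [HasBinaryBiproducts C] in
include hdesc hL hr in
theorem exists_hom_right (h : F ⟶ L) : ∃ a : k, h = a • g := by
  obtain ⟨c, hc⟩ := exists_scalar hL (f ≫ h)
  rcases eq_or_ne c 0 with rfl | hc0
  · obtain ⟨a, rfl⟩ := hdesc h (by rw [hc, zero_smul])
    obtain ⟨b, rfl⟩ := exists_scalar hL a
    exact ⟨b, by simp⟩
  · exact absurd (by rw [Linear.comp_smul, hc, smul_smul, inv_mul_cancel₀ hc0, one_smul]) (hr (c⁻¹ • h))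

omit [HasBinaryBiproducts C] in
include hL in
theorem smul_left_inj {a b : k} (h : a • f = b • f) : a = b :=
  smul_id_inj hL ((cancel_mono f).1 (by simpa using h))

omit [HasBinaryBiproducts C] in
include hL in
theorem smul_right_inj {a b : k} (h : a • g = b • g) : a = b :=
  smul_id_inj hL ((cancel_epi g).1 (by simpa using h))

omit [HasBinaryBiproducts C] in
include hlift hdesc hL hs hr in
theorem exists_endo (φ : F ⟶ F) : ∃ c d : k, φ = c • 𝟙 F + d • (g ≫ f) := by
  obtain ⟨c, hc⟩ := exists_hom_right f g hdesc hL hr (φ ≫ g)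
  obtain ⟨ψ, hψ⟩ := hlift (φ - c • 𝟙 F) (by simp [hc])
  obtain ⟨d, rfl⟩ := exists_hom_right f g hdesc hL hr ψ
  refine ⟨c, d, ?_⟩
  rw [← sub_eq_iff_eq_add', ← hψ]
  simp

omit [HasBinaryBiproducts C] in
include hfg in
theorem f_comp_endo (c d : k) : f ≫ (c • 𝟙 F + d • (g ≫ f)) = c • f := by
  simp [reassoc_of% hfg]

omit [HasBinaryBiproducts C] in
include hfg in
theorem gf_comp_gf : (g ≫ f) ≫ g ≫ f = 0 := by
  simp [reassoc_of% hfg]

omit [HasBinaryBiproducts C] in
include hfg hlift hdesc hL hs hr in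
/-- Automorphisms of a nonsplit self-extension. -/
theorem card_aut_selfExt : Nat.card (Aut F) = (Nat.card k - 1) * Nat.card k := by
  classical
  have hex := exists_endo f g hlift hdesc hL hs hr
  choose c d hcd using hex
  have hc : ∀ (φ : F ⟶ F) (a : k), f ≫ φ = a • f → c φ = a := fun φ a h =>
    smul_left_inj f hL (by rw [← h, ← f_comp_endo f g hfg (c φ) (d φ), ← hcd φ])
  have hf : ∀ φ : F ⟶ F, f ≫ φ = c φ • f := fun φ => by
    conv_lhs => rw [hcd φ]
    exact f_comp_endo f g hfg _ _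
  let χ : End F →+* k :=
    { toFun := fun φ => c φ
      map_one' := hc _ 1 (by show f ≫ 𝟙 F = _; simp)
      map_mul' := fun φ ψ => hc _ _ (by
        show f ≫ (ψ : F ⟶ F) ≫ φ = _
        rw [reassoc_of% hf ψ, Linear.smul_comp, hf, smul_smul, mul_comm])
      map_zero' := hc _ 0 (by simp)
      map_add' := fun φ ψ => hc _ _ (by
        show f ≫ ((φ : F ⟶ F) + ψ) = _
        rw [Preadditive.comp_add, hf, hf, add_smul]) }
  have hk0 : ∀ φ : End F, χ φ = 0 → (φ : F ⟶ F) = d φ • (g ≫ f) := fun φ h => by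
    have h' : c φ = 0 := h
    conv_lhs => rw [hcd φ, h', zero_smul, zero_add]
  rw [card_aut_eq_units, card_units_of_nilpotent_ker χ
    (fun a => ⟨(a • 𝟙 F : F ⟶ F), hc _ a (by simp)⟩) (fun φ h => ⟨2, by
      rw [sq]
      show (φ : F ⟶ F) ≫ φ = 0
      rw [hk0 φ h, Linear.smul_comp, Linear.comp_smul, gf_comp_gf f g hfg, smul_zero, smul_zero]⟩)]
  congr 1
  · exact Nat.card_units k
  · have hdval : ∀ a : k, f ≫ (a • (g ≫ f) : F ⟶ F) = (0 : k) • f := fun a => by
      simp [reassoc_of% hfg]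
    refine Nat.card_congr
      { toFun := fun φ => d φ.1
        invFun := fun a => ⟨(a • (g ≫ f) : F ⟶ F), hc _ 0 (hdval a)⟩
        left_inv := fun φ => Subtype.ext (hk0 _ φ.2).symm
        right_inv := fun a => ?_ }
    have h := hk0 _ (hc _ 0 (hdval a))
    refine smul_left_inj f hL ((cancel_epi g).1 ?_)
    simpa using h.symm

include hfg hlift hdesc hL hs hr in
/-- Automorphisms of the sum of the constituent and a nonsplit self-extension. -/
theorem card_aut_biprod_selfExt :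
    Nat.card (Aut (L ⊞ F)) = (Nat.card k - 1) ^ 2 * Nat.card k ^ 3 := by
  classical
  have hex := exists_endo f g hlift hdesc hL hs hr
  choose c d hcd using hex
  have hc : ∀ (φ : F ⟶ F) (a : k), f ≫ φ = a • f → c φ = a := fun φ a h =>
    smul_left_inj f hL (by rw [← h, ← f_comp_endo f g hfg (c φ) (d φ), ← hcd φ])
  have hf : ∀ φ : F ⟶ F, f ≫ φ = c φ • f := fun φ => by
    conv_lhs => rw [hcd φ]
    exact f_comp_endo f g hfg _ _
  choose b hb using exists_hom_right f g hdesc hL hr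
  choose b' hb' using exists_hom_left f g hlift hL hs
  choose a ha using exists_scalar (k := k) hL
  let A := fun φ : End (L ⊞ F) => a (biprod.inl ≫ (φ : L ⊞ F ⟶ L ⊞ F) ≫ biprod.fst)
  let P := fun φ : End (L ⊞ F) => biprod.inr ≫ (φ : L ⊞ F ⟶ L ⊞ F) ≫ biprod.snd
  let B := fun φ : End (L ⊞ F) => b (biprod.inr ≫ (φ : L ⊞ F ⟶ L ⊞ F) ≫ biprod.fst)
  let B' := fun φ : End (L ⊞ F) => b' (biprod.inl ≫ (φ : L ⊞ F ⟶ L ⊞ F) ≫ biprod.snd)
  let mk := fun (x y z w v : k) => (biprod.desc (biprod.lift (x • 𝟙 L) (z • f))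
    (biprod.lift (y • g) (w • 𝟙 F + v • (g ≫ f))) : L ⊞ F ⟶ L ⊞ F)
  have hdec : ∀ φ : End (L ⊞ F), (φ : L ⊞ F ⟶ L ⊞ F) = mk (A φ) (B φ) (B' φ) (c (P φ)) (d (P φ)) := fun φ => by
    refine biprod.hom_ext' _ _ (biprod.hom_ext _ _ ?_ ?_) (biprod.hom_ext _ _ ?_ ?_)
    · simpa [mk, A] using ha (biprod.inl ≫ (φ : L ⊞ F ⟶ L ⊞ F) ≫ biprod.fst)
    · simpa [mk, B'] using hb' (biprod.inl ≫ (φ : L ⊞ F ⟶ L ⊞ F) ≫ biprod.snd)
    · simpa [mk, B] using hb (biprod.inr ≫ (φ : L ⊞ F ⟶ L ⊞ F) ≫ biprod.fst)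
    · simpa [mk, P] using hcd (biprod.inr ≫ (φ : L ⊞ F ⟶ L ⊞ F) ≫ biprod.snd)
  have hA : ∀ x y z w v, A (mk x y z w v) = x := fun x y z w v => smul_id_inj hL ((ha _).symm.trans (by simp [mk]))
  have hB : ∀ x y z w v, B (mk x y z w v) = y := fun x y z w v => smul_right_inj g hL ((hb _).symm.trans (by simp [mk]))
  have hB' : ∀ x y z w v, B' (mk x y z w v) = z := fun x y z w v => smul_left_inj f hL ((hb' _).symm.trans (by simp [mk]))
  have hC : ∀ x y z w v, c (P (mk x y z w v)) = w := fun x y z w v =>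
    hc _ w (by simp [P, mk, reassoc_of% hfg])
  have hD : ∀ x y z w v, d (P (mk x y z w v)) = v := fun x y z w v => by
    have h := hcd (P (mk x y z w v))
    rw [hC] at h
    refine smul_left_inj f hL ((cancel_epi g).1 ?_)
    simpa [P, mk] using h.symm
  have hprod : ∀ x y z w v x' y' z' w' v', mk x' y' z' w' v' ≫ mk x y z w v =
      mk (x' * x) (y' * x + w' * y) (x' * z + z' * w) (w' * w) (y' * z + w' * v + v' * w) := fun x y z w v x' y' z' w' v' => by
    refine biprod.hom_ext' _ _ (biprod.hom_ext _ _ ?_ ?_) (biprod.hom_ext _ _ ?_ ?_)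
    all_goals simp [mk, hfg, reassoc_of% hfg, smul_smul, add_smul, mul_comm]
    all_goals abel
  have hone : (𝟙 (L ⊞ F) : L ⊞ F ⟶ L ⊞ F) = mk 1 0 0 1 0 := by
    refine biprod.hom_ext' _ _ (biprod.hom_ext _ _ ?_ ?_) (biprod.hom_ext _ _ ?_ ?_) <;> simp [mk]
  have hadd : ∀ x y z w v x' y' z' w' v', mk x y z w v + mk x' y' z' w' v' =
      mk (x + x') (y + y') (z + z') (w + w') (v + v') := fun x y z w v x' y' z' w' v' => by
    refine biprod.hom_ext' _ _ (biprod.hom_ext _ _ ?_ ?_) (biprod.hom_ext _ _ ?_ ?_)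
    all_goals simp [mk, add_smul, Preadditive.add_comp, Preadditive.comp_add]
    all_goals abel
  let χ : End (L ⊞ F) →+* k × k :=
    { toFun := fun φ => (A φ, c (P φ))
      map_one' := by
        show (A (𝟙 _), c (P (𝟙 _))) = _
        rw [hone, hA, hC]
        rfl
      map_mul' := fun φ ψ => by
        show (A ((ψ : L ⊞ F ⟶ L ⊞ F) ≫ φ), c (P ((ψ : L ⊞ F ⟶ L ⊞ F) ≫ φ))) = _
        conv_lhs => rw [hdec φ, hdec ψ, hprod, hA, hC]
        exact Prod.ext (mul_comm _ _) (mul_comm _ _)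
      map_zero' := by
        have h0 : ((0 : End (L ⊞ F)) : L ⊞ F ⟶ L ⊞ F) = mk 0 0 0 0 0 := by
          refine biprod.hom_ext' _ _ (biprod.hom_ext _ _ ?_ ?_) (biprod.hom_ext _ _ ?_ ?_) <;> simp [mk]
        rw [h0, hA, hC]
        rfl
      map_add' := fun φ ψ => by
        have h : ((φ + ψ : End (L ⊞ F)) : L ⊞ F ⟶ L ⊞ F) =
            mk (A φ + A ψ) (B φ + B ψ) (B' φ + B' ψ) (c (P φ) + c (P ψ)) (d (P φ) + d (P ψ)) := by
          conv_lhs => rw [hdec φ, hdec ψ]
          exact hadd _ _ _ _ _ _ _ _ _ _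
        conv_lhs => rw [h, hA, hC]
        rfl }
  rw [card_aut_eq_units, card_units_of_nilpotent_ker χ
    (fun p => ⟨mk p.1 0 0 p.2 0, Prod.ext (hA _ _ _ _ _) (hC _ _ _ _ _)⟩) (fun φ h => ⟨3, by
      have h1 : A φ = 0 := congrArg Prod.fst h
      have h2 : c (P φ) = 0 := congrArg Prod.snd h
      rw [pow_succ, pow_two]
      show (φ : L ⊞ F ⟶ L ⊞ F) ≫ φ ≫ φ = 0
      rw [hdec φ, h1, h2, hprod, hprod]
      refine biprod.hom_ext' _ _ (biprod.hom_ext _ _ ?_ ?_) (biprod.hom_ext _ _ ?_ ?_) <;> simp [mk]⟩)]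
  congr 1
  · rw [Nat.card_congr MulEquiv.prodUnits.toEquiv, Nat.card_prod, Nat.card_units, sq]
  · rw [show Nat.card k ^ 3 = Nat.card (k × k × k) by rw [Nat.card_prod, Nat.card_prod]; ring]
    refine Nat.card_congr
      { toFun := fun φ => (B φ.1, B' φ.1, d (P φ.1))
        invFun := fun p => ⟨mk 0 p.1 p.2.1 0 p.2.2, Prod.ext (hA _ _ _ _ _) (hC _ _ _ _ _)⟩
        left_inv := fun φ => Subtype.ext ?_
        right_inv := fun p => Prod.ext (hB _ _ _ _ _) (Prod.ext (hB' _ _ _ _ _) (hD _ _ _ _ _)) }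
    have h1 : A φ.1 = 0 := congrArg Prod.fst φ.2
    have h2 : c (P φ.1) = 0 := congrArg Prod.snd φ.2
    conv_rhs => rw [hdec φ.1, h1, h2]

end Extension

end Groth.Agent.H7VB
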