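import Groth.Agent.H7VB.Split
import Groth.Agent.H7VB.Count
import Groth.Agent.H29RR.SectionPair
import Groth.Agent.H29RR.Invert

/-!
# Automorphism groups of some bundles on curves over finite fields
-/

set_option autoImplicit false
set_option linter.style.haveILetI false
set_option linter.unusedSectionVars false
set_option backward.isDefEq.respectTransparency false

universe u

open CategoryTheory CategoryTheory.Limits AlgebraicGeometry TensorProduct

namespace Groth.Agent.H7VB

open Groth.Agent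

attribute [local instance] Abelian.hasFiniteBiproducts

variable {k : Type u} [Field k] [Finite k] {X : Scheme.{u}}
  [X.Over (Spec (CommRingCat.of k))] [IsProper (X ↘ Spec (CommRingCat.of k))] [IsIntegral X]
  [Smooth (X ↘ Spec (CommRingCat.of k))]

/-- There are no homomorphisms between distinct invertible modules of the same degree. -/
theorem hom_eq_zero_of_deg (hdim : topologicalKrullDim X ≤ 1) {N L : X.Modules} (hN : PicF.IsInvertible N)
    (hL : PicF.IsInvertible L) (hd : Curv2.deg k X N 1 = Curv2.deg k X L 1) (hne : ¬ Nonempty (N ≅ L))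
    (φ : N ⟶ L) : φ = 0 := by
  by_contra h
  haveI := (H29RR.deg_le_of_ne_zero (k := k) hdim hN hL h).2 hd
  exact hne ⟨asIso φ⟩

theorem deg_structureModule' : Curv2.deg k X (Coh.structureModule X) 1 = 0 := by
  simp [Curv2.deg]

/-- Automorphisms of a nonsplit self-extension of an invertible module plus the module. -/
theorem card_aut_biprod_ext (O : Spec (CommRingCat.of k) ⟶ X) (hO : O ≫ (X ↘ Spec (CommRingCat.of k)) = 𝟙 _)
    {L : X.Modules} (hL : PicF.IsInvertible L) (S : ShortComplex X.Modules) (hS : S.ShortExact)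
    (e₁ : S.X₁ ≅ L) (e₃ : S.X₃ ≅ L) (hns : ¬ IsSplitEpi S.g) :
    Nat.card (Aut (L ⊞ S.X₂)) = (Nat.card k - 1) ^ 2 * Nat.card k ^ 3 ∧
      Nat.card (Aut S.X₂) = (Nat.card k - 1) * Nat.card k := by
  haveI := hS.mono_f
  haveI := hS.epi_g
  let f := e₁.inv ≫ S.f
  let g := S.g ≫ e₃.hom
  have hfg : f ≫ g = 0 := by simp [f, g]
  have hl : ∀ {W : X.Modules} (h : W ⟶ S.X₂), h ≫ g = 0 → ∃ a : W ⟶ L, a ≫ f = h := fun h w => by
    have w' : h ≫ S.g = 0 := by rw [← cancel_mono e₃.hom, Category.assoc]; simpa [g] using w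
    exact ⟨hS.exact.lift h w' ≫ e₁.hom, by simp [f]⟩
  have hd : ∀ {W : X.Modules} (h : S.X₂ ⟶ W), f ≫ h = 0 → ∃ a : L ⟶ W, g ≫ a = h := fun h w => by
    have w' : S.f ≫ h = 0 := by rw [← cancel_epi e₁.inv]; simpa [f] using w
    exact ⟨e₃.inv ≫ hS.exact.desc h w', by simp [g]⟩
  have hs : ∀ σ : L ⟶ S.X₂, σ ≫ g ≠ 𝟙 L := fun σ h => hns ⟨⟨⟨e₃.hom ≫ σ, by
    rw [← cancel_mono e₃.hom, Category.assoc, Category.assoc]
    simp only [g] at h
    rw [h]
    simp⟩⟩⟩
  have hr : ∀ ρ : S.X₂ ⟶ L, f ≫ ρ ≠ 𝟙 L := fun ρ h => by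
    have hr' : S.f ≫ (ρ ≫ e₁.inv) = 𝟙 S.X₁ := by
      rw [← cancel_epi e₁.inv, ← cancel_mono e₁.hom]
      simp only [f] at h
      simpa using h
    let sp := ShortComplex.Splitting.ofExactOfRetraction S hS.exact (ρ ≫ e₁.inv) hr' hS.epi_g
    exact hns ⟨⟨⟨sp.s, sp.s_g⟩⟩⟩
  have hE := end_invertible_bijective (k := k) O hO hL
  exact ⟨card_aut_biprod_selfExt (k := k) f g hfg hl hd hE hs hr, card_aut_selfExt (k := k) f g hfg hl hd hE hs hr⟩

/-- A nonsplit self-extension twisted by an invertible module. -/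
theorem exists_twist_ext (O : Spec (CommRingCat.of k) ⟶ X) (hO : O ≫ (X ↘ Spec (CommRingCat.of k)) = 𝟙 _)
    {L : X.Modules} (hL : PicF.IsInvertible L) (T : ShortComplex X.Modules) (hT : T.ShortExact)
    (e₁ : T.X₁ ≅ Coh.structureModule X) (e₃ : T.X₃ ≅ Coh.structureModule X) (hns : ¬ IsSplitEpi T.g) :
    ∃ S : ShortComplex X.Modules, S.ShortExact ∧ Nonempty (S.X₁ ≅ L) ∧ Nonempty (S.X₃ ≅ L) ∧
      Nonempty (S.X₂ ≅ CohB1.tensorMod L T.X₂) ∧ ¬ IsSplitEpi S.g := by
  haveI := H29RR.isNoetherian_of_proper (k := k) (X := X)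
  let F := H10Coh.PF.TR L
  haveI : F.Additive := inferInstanceAs (((DCoh.tensorBi (X := X)).flip.obj L).Additive)
  have hfl : FlatMod.IsFlat L :=
    H16Derived.KFlat.Stalk.isFlat_of_isFinLocFree (H28Pinch.isFinLocFree_of_isInvertible hL)
  have hS : (T.map F).ShortExact := H10Coh.PF.shortExact_TR hfl hT
  refine ⟨T.map F, hS, ⟨F.mapIso e₁ ≪≫ H10Coh.Tw.leftUnitIso L⟩, ⟨F.mapIso e₃ ≪≫ H10Coh.Tw.leftUnitIso L⟩,
    ⟨H10Coh.Tw.commIso _ _⟩, fun hsplit => ?_⟩
  obtain ⟨⟨⟨σ, hσ⟩⟩⟩ := hsplit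
  haveI := hS.mono_f
  let sp := ShortComplex.Splitting.ofExactOfSection (T.map F) hS.exact σ hσ hS.mono_f
  obtain ⟨M, hM, ⟨eM⟩⟩ := H29RR.exists_inverse_comm hL
  let G := H10Coh.PF.TR M
  haveI : G.Additive := inferInstanceAs (((DCoh.tensorBi (X := X)).flip.obj M).Additive)
  let eP := fun P : X.Modules =>
    (H10Coh.Tw.assoc P L M ≪≫ PicGrp.tensorModIso (Iso.refl P) eM ≪≫ H10Coh.Tw.commIso _ _ ≪≫
      H10Coh.Tw.leftUnitIso P : G.obj (F.obj P) ≅ P)
  haveI : PreservesBinaryBiproducts G := preservesBinaryBiproducts_of_preservesBiproducts G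
  let ψ : T.X₂ ≅ Coh.structureModule X ⊞ Coh.structureModule X :=
    (eP T.X₂).symm ≪≫ G.mapIso sp.isoBinaryBiproduct ≪≫ G.mapBiprod _ _ ≪≫
      biprod.mapIso (eP T.X₁ ≪≫ e₁) (eP T.X₃ ≪≫ e₃)
  haveI := hT.mono_f
  haveI := hT.epi_g
  have hU : Function.Bijective (algebraMap k (End (Coh.structureModule X))) :=
    end_invertible_bijective (k := k) O hO H11Ample.isInvertible_structureModule
  let f := e₁.inv ≫ T.f
  let g := T.g ≫ e₃.hom
  have hl : ∀ {W : X.Modules} (h : W ⟶ T.X₂), h ≫ g = 0 → ∃ a : W ⟶ Coh.structureModule X, a ≫ f = h :=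
    fun h w => by
      have w' : h ≫ T.g = 0 := by rw [← cancel_mono e₃.hom, Category.assoc]; simpa [g] using w
      exact ⟨hT.exact.lift h w' ≫ e₁.hom, by simp [f]⟩
  have hs : ∀ σ : Coh.structureModule X ⟶ T.X₂, σ ≫ g ≠ 𝟙 _ := fun σ h => hns ⟨⟨⟨e₃.hom ≫ σ, by
    rw [← cancel_mono e₃.hom, Category.assoc, Category.assoc]
    simp only [g] at h
    rw [h]
    simp⟩⟩⟩
  obtain ⟨a, ha⟩ := exists_hom_left (k := k) f g hl hU hs (biprod.inl ≫ ψ.inv)
  obtain ⟨b, hb⟩ := exists_hom_left (k := k) f g hl hU hs (biprod.inr ≫ ψ.inv)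
  have h1 := congrArg (· ≫ ψ.hom ≫ biprod.fst) ha
  have h2 := congrArg (· ≫ ψ.hom ≫ biprod.snd) ha
  have h3 := congrArg (· ≫ ψ.hom ≫ biprod.snd) hb
  simp only [Category.assoc, Iso.inv_hom_id_assoc, biprod.inl_fst, biprod.inl_snd, biprod.inr_snd,
    Linear.smul_comp] at h1 h2 h3
  have h0 : (𝟙 (Coh.structureModule X) : _ ⟶ _) ≠ 0 := fun h =>
    H29RR.not_isZero_of_rank (k := k) (H29RR.rank_one_of_isInvertible H11Ample.isInvertible_structureModule) one_pos
      ((IsZero.iff_id_eq_zero _).2 h)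
  rcases eq_or_ne a 0 with rfl | ha0
  · exact h0 (by rw [h1, zero_smul])
  · have h4 : f ≫ ψ.hom ≫ biprod.snd = 0 := (smul_eq_zero_iff_right ha0).1 h2.symm
    exact h0 (by rw [h3, h4, smul_zero])

omit [IsIntegral X] in
/-- An endomorphism acts on the conjugate summands by the conjugates of its residue. -/
theorem endEquiv_comp_proj {K : Type u} [Field K] [Algebra k K] [FiniteDimensional k K] [IsGalois k K]
    {X' : Scheme.{u}} [X'.Over (Spec (CommRingCat.of K))] {q : X' ⟶ X}
    {E : X.Modules} (s : K →ₐ[k] End E) (Φ : K ⊗[k] End E ≃ₐ[K] End ((Scheme.Modules.pullback q).obj E))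
    (hΦ : ∀ f : End E, Φ ((1 : K) ⊗ₜ[k] f) = (Scheme.Modules.pullback q).map f)
    {Y : (K ≃ₐ[k] K) → X'.Modules} {i : ∀ g, Y g ⟶ (Scheme.Modules.pullback q).obj E}
    {r : ∀ g, (Scheme.Modules.pullback q).obj E ⟶ Y g} (hir : ∀ g, i g ≫ r g = 𝟙 (Y g))
    (hri : ∀ g, r g ≫ i g = Φ (idem s g)) (x : K) (g : K ≃ₐ[k] K) :
    (Scheme.Modules.pullback q).map (End.asHom (s x)) ≫ r g = g x • r g ∧
      i g ≫ (Scheme.Modules.pullback q).map (End.asHom (s x)) = g x • i g := by
  classical
  have h1 : (1 : K) ⊗ₜ[k] x = ∑ h : K ≃ₐ[k] K, h x • galIdem h := by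
    refine (galPts_bijective K).1 (funext fun j => ?_)
    rw [map_sum, Finset.sum_apply, galPts_tmul, one_mul]
    simp only [map_smul, galPts_galIdem, Pi.smul_apply, Pi.single_apply, smul_eq_mul, mul_ite, mul_one, mul_zero,
      Finset.sum_ite_eq, Finset.mem_univ, if_true]
  have h2 : (1 : K) ⊗ₜ[k] s x = ∑ h : K ≃ₐ[k] K, h x • idem s h := by
    have h := congrArg (Algebra.TensorProduct.map (AlgHom.id K K) s) h1
    rw [Algebra.TensorProduct.map_tmul, AlgHom.id_apply, map_sum] at h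
    simp only [map_smul] at h
    exact h
  have h3 : (1 : K) ⊗ₜ[k] s x * idem s g = g x • idem s g ∧ idem s g * (1 : K) ⊗ₜ[k] s x = g x • idem s g := by
    rw [h2, Finset.sum_mul, Finset.mul_sum]
    constructor
    · rw [Finset.sum_eq_single g (fun h _ hne => by rw [smul_mul_assoc, idem_mul_of_ne s hne, smul_zero])
        (fun h => absurd (Finset.mem_univ g) h), smul_mul_assoc, idem_mul_self]
    · rw [Finset.sum_eq_single g (fun h _ hne => by rw [mul_smul_comm, idem_mul_of_ne s hne.symm, smul_zero])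
        (fun h => absurd (Finset.mem_univ g) h), mul_smul_comm, idem_mul_self]
  have h4 := congrArg Φ h3.2
  have h5 := congrArg Φ h3.1
  rw [map_mul, map_smul, hΦ, ← hri g] at h4 h5
  constructor
  · have h : ((Scheme.Modules.pullback q).map (End.asHom (s x)) ≫ r g ≫ i g) ≫ r g =
        (g x • (r g ≫ i g)) ≫ r g :=
      congrArg (fun z : (Scheme.Modules.pullback q).obj E ⟶ _ => z ≫ r g) h4
    simpa [hir, Linear.smul_comp] using h
  · have h : i g ≫ (r g ≫ i g) ≫ (Scheme.Modules.pullback q).map (End.asHom (s x)) =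
        i g ≫ (g x • (r g ≫ i g)) :=
      congrArg (fun z : (Scheme.Modules.pullback q).obj E ⟶ _ => i g ≫ z) h5
    simpa [reassoc_of% hir g, Linear.comp_smul] using h

variable [GeometricallyIntegral (X ↘ Spec (CommRingCat.of k))]

/-- A degree zero bundle of rank two that splits only geometrically has no sections and no functionals. -/
theorem hom_eq_zero_rank_two (hdim : topologicalKrullDim X ≤ 1) (O : Spec (CommRingCat.of k) ⟶ X)
    (hO : O ≫ (X ↘ Spec (CommRingCat.of k)) = 𝟙 _) {G : X.Modules} (hG : FlatMod.IsFinLocFreeOfRank 2 G)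
    (hdeg : Curv2.deg k X G 2 = 0)
    (hind : ¬ IsZero G ∧ ∀ E₁ E₂ : X.Modules, Nonempty (G ≅ E₁ ⊞ E₂) → IsZero E₁ ∨ IsZero E₂)
    (hng : ∃ (K : Type u) (_ : Field K) (_ : Algebra k K) (E₁ E₂ : (Curv2.bc k X K).Modules),
      ¬ IsZero E₁ ∧ ¬ IsZero E₂ ∧ Nonempty ((Scheme.Modules.pullback (Curv2.bcFst k X K)).obj G ≅ E₁ ⊞ E₂))
    (K : Type u) [Field K] [Algebra k K] (hK : Module.finrank k K = 2) :
    (∀ h : Coh.structureModule X ⟶ G, h = 0) ∧ (∀ t : G ⟶ Coh.structureModule X, t = 0) := by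
  classical
  haveI := H29RR.isNoetherian_of_proper (k := k) (X := X)
  have hEc := H29RR.isCoh_of_rank hG
  obtain ⟨π, s, hs, hker⟩ := exists_residue_rank O hO Nat.prime_two hG hEc hind hng K hK
  haveI : FiniteDimensional k K := Module.finite_of_finrank_pos (by rw [hK]; exact two_pos)
  haveI : Finite K := Module.finite_of_finite k
  letI : (Curv2.bc k X K).Over (Spec (CommRingCat.of K)) := ⟨Curv2.bcSnd k X K⟩
  haveI : IsProper (Curv2.bc k X K ↘ Spec (CommRingCat.of K)) := inferInstanceAs (IsProper (pullback.snd _ _))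
  have hsq : IsPullback (Curv2.bcFst k X K) (Curv2.bc k X K ↘ Spec (CommRingCat.of K))
      (X ↘ Spec (CommRingCat.of k)) (Spec.map (CommRingCat.ofHom (algebraMap k K))) :=
    IsPullback.of_hasPullback _ _
  haveI : IsIntegral (Curv2.bc k X K) := GeometricallyIntegral.geometrically_isIntegral _ _ _ hsq
  haveI := H29RR.isNoetherian_of_proper (k := K) (X := Curv2.bc k X K)
  obtain ⟨Φ, hΦ⟩ := exists_endEquiv hsq hEc
  obtain ⟨Y, i, r, ν, hY, hir, hri, -⟩ := exists_conjugates π s hs Φ hK hG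
  let P := Scheme.Modules.pullback (Curv2.bcFst k X K)
  have hOX := H11Ample.isInvertible_structureModule (X := X)
  have hOc := H29RR.isCoh_of_rank (H29RR.rank_one_of_isInvertible hOX)
  have hU : PicF.IsInvertible (P.obj (Coh.structureModule X)) :=
    H22Alg.PB.isInvertible_of_rank_one (H26Gr.isFinLocFreeOfRank_pullback _ (H29RR.rank_one_of_isInvertible hOX))
  obtain ⟨ξ, hξ⟩ := Field.exists_primitive_element k K
  have hadj : Algebra.adjoin k {ξ} = ⊤ := by
    rw [← IntermediateField.adjoin_simple_toSubalgebra_of_isAlgebraic (Algebra.IsAlgebraic.isAlgebraic ξ), hξ]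
    rfl
  have hξk : ∀ c : k, ξ ≠ algebraMap k K c := fun c h => by
    have h1 : IntermediateField.adjoin k {ξ} = (⊥ : IntermediateField k K) :=
      IntermediateField.adjoin_simple_eq_bot_iff.2 (h ▸ IntermediateField.algebraMap_mem _ c)
    rw [hξ] at h1
    have h2 := IntermediateField.finrank_top' (F := k) (E := K)
    rw [h1, IntermediateField.finrank_bot, hK] at h2
    exact absurd h2 (by norm_num)
  have hinj : ∀ g g' : K ≃ₐ[k] K, g ξ = g' ξ → g = g' := fun g g' h =>
    AlgEquiv.ext fun z => AlgHom.congr_fun (AlgHom.ext_of_adjoin_eq_top hadj (φ₁ := g.toAlgHom) (φ₂ := g'.toAlgHom)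
      fun w hw => by rw [Set.mem_singleton_iff.1 hw]; exact h) z
  let σ : G ⟶ G := End.asHom (s ξ)
  have hσr : ∀ g, P.map σ ≫ r g = g ξ • r g := fun g => (endEquiv_comp_proj s Φ hΦ hir hri ξ g).1
  have hσi : ∀ g, i g ≫ P.map σ = g ξ • i g := fun g => (endEquiv_comp_proj s Φ hΦ hir hri ξ g).2
  have htot : (∑ g, r g ≫ i g) = 𝟙 (P.obj G) := by
    simp only [hri]
    refine (map_sum Φ (idem s) Finset.univ).symm.trans ?_
    rw [sum_idem, map_one]
    rfl
  have hunit : ∀ c : k, IsIso (σ - c • 𝟙 G) := fun c => by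
    have h1 : IsUnit (s (ξ - algebraMap k K c)) := (IsUnit.mk0 _ (sub_ne_zero.2 (hξk c))).map s
    rw [map_sub, AlgHom.commutes, Algebra.algebraMap_eq_smul_one] at h1
    exact (isUnit_iff_isIso _).1 h1
  have huniv : ∀ a b : Fin 2, a ≠ b → ∀ g, g = ν a ∨ g = ν b := fun a b hab g => by
    obtain ⟨j, rfl⟩ := ν.surjective g
    fin_cases a <;> fin_cases b <;> fin_cases j <;> simp_all
  have hsum : ∀ {M : (Curv2.bc k X K).Modules} (a b : Fin 2), a ≠ b → ∀ (F : (K ≃ₐ[k] K) → (M ⟶ M)),
      ∑ g, F g = F (ν a) + F (ν b) := fun {M} a b hab F => by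
    rw [← Equiv.sum_comp ν, Fin.sum_univ_two]
    fin_cases a <;> fin_cases b <;> simp_all [add_comm]
  obtain ⟨hB, hdB⟩ := H29RR.rank_two_trivial (k := k) (X := X) hdim
  have hnd : ∀ φ : G ≅ Coh.structureModule X ⊞ Coh.structureModule X, False := fun φ => by
    rcases hind.2 _ _ ⟨φ⟩ with h | h <;>
      exact H29RR.not_isZero_of_rank (k := k) (H29RR.rank_one_of_isInvertible hOX) one_pos h
  constructor
  · intro h
    by_contra hne
    have hcomp : ∀ g, P.map h ≫ r g ≠ 0 := by
      intro g0 h0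
      obtain ⟨l, hl⟩ := H23KS.exists_retraction (k := k) (K := K)
      obtain ⟨a, rfl⟩ := ν.surjective g0
      let b : Fin 2 := if a = 0 then 1 else 0
      have hab : a ≠ b := by simp only [b]; fin_cases a <;> simp
      have htot2 : r (ν a) ≫ i (ν a) + r (ν b) ≫ i (ν b) = 𝟙 (P.obj G) := by
        rw [← hsum a b hab (fun g => r g ≫ i g), htot]
      have e1 : P.map h = (P.map h ≫ r (ν b)) ≫ i (ν b) := by
        conv_lhs => rw [← Category.comp_id (P.map h), ← htot2]
        rw [Preadditive.comp_add, reassoc_of% h0, zero_comp, zero_add, Category.assoc]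
      have e2 : P.map (h ≫ σ) = ν b ξ • P.map h := by
        rw [Functor.map_comp]
        conv_lhs => rw [e1, Category.assoc, hσi, Linear.comp_smul, ← e1]
      have e3 := eq_sum_of_map_smul hsq hEc l hl (Finset.univ : Finset (Fin 1)) (fun _ => ν b ξ) (fun _ => h) (h ≫ σ)
        (by rw [Fin.sum_univ_one]; exact e2.symm)
      rw [Fin.sum_univ_one] at e3
      haveI := hunit (l (ν b ξ))
      exact hne ((cancel_mono (σ - l (ν b ξ) • 𝟙 G)).1 (by
        rw [zero_comp, Preadditive.comp_sub, e3, Linear.comp_smul, Category.comp_id, sub_self]))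
    let Ψ : Coh.structureModule X ⊞ Coh.structureModule X ⟶ G := biprod.desc h (h ≫ σ)
    haveI : Mono Ψ := Preadditive.mono_of_cancel_zero _ fun {Z} u hu => by
      have hu' : (u ≫ biprod.fst) ≫ h + (u ≫ biprod.snd) ≫ h ≫ σ = 0 := by
        rw [← hu]
        simp only [Category.assoc, Ψ, ← Preadditive.comp_add]
        congr 1
        exact biprod.hom_ext' _ _ (by simp) (by simp)
      have hg : ∀ g : K ≃ₐ[k] K, P.map (u ≫ biprod.fst) + g ξ • P.map (u ≫ biprod.snd) = 0 := fun g => by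
        haveI := (H29RR.mono_of_ne_zero hU (hY g) (hcomp g)).1
        refine (cancel_mono (P.map h ≫ r g)).1 ?_
        rw [zero_comp, Preadditive.add_comp, Linear.smul_comp]
        have h5 := congrArg (fun z => P.map z ≫ r g) hu'
        simp only [Functor.map_add, Functor.map_comp, Functor.map_zero, Preadditive.add_comp, zero_comp,
          Category.assoc, hσr, Linear.comp_smul] at h5
        simpa only [Functor.map_comp, Category.assoc] using h5
      have h6 : (ν 0 ξ - ν 1 ξ) • P.map (u ≫ biprod.snd) = 0 := by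
        have h7 := congrArg₂ (· - ·) (hg (ν 0)) (hg (ν 1))
        simpa [sub_smul] using h7
      have h8 : P.map (u ≫ biprod.snd) = 0 :=
        (smul_eq_zero_iff_right (sub_ne_zero.2 fun he => absurd (ν.injective (hinj _ _ he)) (by decide))).1 h6
      have h9 : P.map (u ≫ biprod.fst) = 0 := by simpa [h8] using hg (ν 0)
      exact biprod.hom_ext _ _ (by simpa using pullback_map_injective hsq hOc _ h9)
        (by simpa using pullback_map_injective hsq hOc _ h8)
    haveI := H29RR.isIso_of_deg_eq (k := k) hdim hB hG Ψ (by rw [hdB, hdeg])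
    exact hnd (asIso Ψ).symm
  · intro t
    by_contra hne
    have hcomp : ∀ g, i g ≫ P.map t ≠ 0 := by
      intro g0 h0
      obtain ⟨l, hl⟩ := H23KS.exists_retraction (k := k) (K := K)
      obtain ⟨a, rfl⟩ := ν.surjective g0
      let b : Fin 2 := if a = 0 then 1 else 0
      have hab : a ≠ b := by simp only [b]; fin_cases a <;> simp
      have htot2 : r (ν a) ≫ i (ν a) + r (ν b) ≫ i (ν b) = 𝟙 (P.obj G) := by
        rw [← hsum a b hab (fun g => r g ≫ i g), htot]
      have e1 : P.map t = r (ν b) ≫ i (ν b) ≫ P.map t := by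
        conv_lhs => rw [← Category.id_comp (P.map t), ← htot2]
        rw [Preadditive.add_comp, Category.assoc, h0, comp_zero, zero_add, Category.assoc]
      have e2 : P.map (σ ≫ t) = ν b ξ • P.map t := by
        rw [Functor.map_comp]
        conv_lhs => rw [e1, reassoc_of% hσr (ν b), Linear.smul_comp, ← e1]
      have e3 := eq_sum_of_map_smul hsq hOc l hl (Finset.univ : Finset (Fin 1)) (fun _ => ν b ξ) (fun _ => t) (σ ≫ t)
        (by rw [Fin.sum_univ_one]; exact e2.symm)
      rw [Fin.sum_univ_one] at e3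
      haveI := hunit (l (ν b ξ))
      exact hne ((cancel_epi (σ - l (ν b ξ) • 𝟙 G)).1 (by
        rw [comp_zero, Preadditive.sub_comp, e3, Linear.smul_comp, Category.id_comp, sub_self]))
    let Ψ : G ⟶ Coh.structureModule X ⊞ Coh.structureModule X := biprod.lift t (σ ≫ t)
    haveI : Mono Ψ := Preadditive.mono_of_cancel_zero _ fun {Z} u hu => by
      have h1 : P.map u ≫ P.map t = 0 := by
        have := congrArg (· ≫ biprod.fst) hu
        simp only [Ψ, Category.assoc, biprod.lift_fst, zero_comp] at this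
        rw [← Functor.map_comp, this, Functor.map_zero]
      have h2 : P.map u ≫ P.map σ ≫ P.map t = 0 := by
        have := congrArg (· ≫ biprod.snd) hu
        simp only [Ψ, Category.assoc, biprod.lift_snd, zero_comp] at this
        rw [← Functor.map_comp, ← Functor.map_comp, this, Functor.map_zero]
      refine pullback_map_injective hsq hEc u ?_
      have hw : ∀ a b : Fin 2, a ≠ b → P.map u ≫ r (ν a) = 0 := fun a b hab => by
        have htot2 : r (ν a) ≫ i (ν a) + r (ν b) ≫ i (ν b) = 𝟙 (P.obj G) := by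
          rw [← hsum a b hab (fun g => r g ≫ i g), htot]
        have q1 : P.map u ≫ r (ν a) ≫ i (ν a) ≫ P.map t + P.map u ≫ r (ν b) ≫ i (ν b) ≫ P.map t = 0 := by
          rw [← h1]
          conv_rhs => rw [← Category.id_comp (P.map t), ← htot2]
          simp only [Preadditive.add_comp, Preadditive.comp_add, Category.assoc]
        have q2 : ν a ξ • (P.map u ≫ r (ν a) ≫ i (ν a) ≫ P.map t) +
            ν b ξ • (P.map u ≫ r (ν b) ≫ i (ν b) ≫ P.map t) = 0 := by
          rw [← h2]
          conv_rhs => rw [← Category.id_comp (P.map σ ≫ P.map t), ← htot2]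
          simp only [Preadditive.add_comp, Preadditive.comp_add, Category.assoc, reassoc_of% hσi (ν a),
            reassoc_of% hσi (ν b), Linear.comp_smul, Linear.smul_comp]
        haveI := (H29RR.mono_of_ne_zero (hY (ν a)) hU (hcomp (ν a))).1
        refine (cancel_mono (i (ν a) ≫ P.map t)).1 ?_
        rw [zero_comp, Category.assoc]
        rw [eq_neg_of_add_eq_zero_right q1, smul_neg, ← sub_eq_add_neg, ← sub_smul] at q2
        exact (smul_eq_zero_iff_right (sub_ne_zero.2 fun he => hab (ν.injective (hinj _ _ he)))).1 q2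
      rw [← Category.comp_id (P.map u), ← htot, Preadditive.comp_sum]
      refine Finset.sum_eq_zero fun g _ => ?_
      obtain ⟨a, rfl⟩ := ν.surjective g
      rw [← Category.assoc, hw a (if a = 0 then 1 else 0) (by fin_cases a <;> simp), zero_comp]
    haveI := H29RR.isIso_of_deg_eq (k := k) hdim hG hB Ψ (by rw [hdB, hdeg])
    exact hnd (asIso Ψ)

/-- An indecomposable rank two bundle that splits geometrically has a quadratic field of endomorphisms. -/
theorem card_aut_rank_two (O : Spec (CommRingCat.of k) ⟶ X) (hO : O ≫ (X ↘ Spec (CommRingCat.of k)) = 𝟙 _)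
    {G : X.Modules} (hG : FlatMod.IsFinLocFreeOfRank 2 G)
    (hind : ¬ IsZero G ∧ ∀ E₁ E₂ : X.Modules, Nonempty (G ≅ E₁ ⊞ E₂) → IsZero E₁ ∨ IsZero E₂)
    (hng : ∃ (K : Type u) (_ : Field K) (_ : Algebra k K) (E₁ E₂ : (Curv2.bc k X K).Modules),
      ¬ IsZero E₁ ∧ ¬ IsZero E₂ ∧ Nonempty ((Scheme.Modules.pullback (Curv2.bcFst k X K)).obj G ≅ E₁ ⊞ E₂)) :
    ∃ (K : Type u) (_ : Field K) (_ : Algebra k K), Module.finrank k K = 2 ∧
      Nat.card (Aut G) = Nat.card k ^ 2 - 1 := by
  haveI := H29RR.isNoetherian_of_proper (k := k) (X := X)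
  have hEc := H29RR.isCoh_of_rank hG
  obtain ⟨L, _, _, _, π, s, hs, hker⟩ := exists_residue_end (k := k) hEc hind
  have h2 : Module.finrank k L = 2 := by
    rcases Nat.prime_two.eq_one_or_self_of_dvd _ (finrank_dvd_rank O hO hG L s) with h | h
    · obtain ⟨K', _, _, E₁, E₂, h1, h2, ⟨e⟩⟩ := hng
      letI : (Curv2.bc k X K').Over (Spec (CommRingCat.of K')) := ⟨Curv2.bcSnd k X K'⟩
      rcases isZero_or_isZero_of_finrank_eq_one (IsPullback.of_hasPullback _ _) hEc π s hs hker h e with h3 | h3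
      · exact absurd h3 h1
      · exact absurd h3 h2
    · exact h
  obtain ⟨e⟩ := nonempty_end_equiv O hO Nat.prime_two hG hind hng L h2
  refine ⟨L, inferInstance, inferInstance, h2, ?_⟩
  haveI : Finite L := Module.finite_of_finite k
  rw [card_aut_eq_units, Nat.card_congr (Units.mapEquiv e.toMulEquiv).toEquiv, Nat.card_units,
    Module.natCard_eq_pow_finrank (K := k) (V := L), h2]

end Groth.Agent.H7VB
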