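import Groth.Agent.H7VB.Bundle

/-!
# Splitting and automorphisms of indecomposable, geometrically decomposable bundles of prime rank
-/

set_option autoImplicit false
set_option linter.style.haveILetI false
set_option linter.unusedSectionVars false
set_option backward.isDefEq.respectTransparency false

universe u

open CategoryTheory CategoryTheory.Limits AlgebraicGeometry TensorProduct

namespace Groth.Agent.H7VB

open Groth.Agent

attribute [local instance] Abelian.hasFiniteBiproducts

variable {k : Type u} [Field k] [Finite k] {X : Scheme.{u}}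
  [X.Over (Spec (CommRingCat.of k))] [IsProper (X ↘ Spec (CommRingCat.of k))]
  [GeometricallyIntegral (X ↘ Spec (CommRingCat.of k))]
  (O : Spec (CommRingCat.of k) ⟶ X) (hO : O ≫ (X ↘ Spec (CommRingCat.of k)) = 𝟙 _)
  {E : X.Modules} {n : ℕ} (hn : n.Prime) (hE : FlatMod.IsFinLocFreeOfRank n E)
  (hind : ¬ IsZero E ∧ ∀ E₁ E₂ : X.Modules, Nonempty (E ≅ E₁ ⊞ E₂) → IsZero E₁ ∨ IsZero E₂)
  (hng : ∃ (K : Type u) (_ : Field K) (_ : Algebra k K) (E₁ E₂ : (Curv2.bc k X K).Modules),
    ¬ IsZero E₁ ∧ ¬ IsZero E₂ ∧ Nonempty ((Scheme.Modules.pullback (Curv2.bcFst k X K)).obj E ≅ E₁ ⊞ E₂))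
  (K : Type u) [Field K] [Algebra k K] (hK : Module.finrank k K = n)

include O hO hn hE hind hng hK in
/-- Over the extension of degree the rank the bundle is a sum of distinct line bundles not defined over the base. -/
theorem splits : ∃ (M : Fin n → (Curv2.bc k X K).Modules), (∀ i, PicF.IsInvertible (M i)) ∧
      Nonempty ((Scheme.Modules.pullback (Curv2.bcFst k X K)).obj E ≅ ∐ M) ∧
      (∀ i j, i ≠ j → ¬ Nonempty (M i ≅ M j)) ∧
      (∀ (i : Fin n) (L : X.Modules), PicF.IsInvertible L →
        ¬ Nonempty (M i ≅ (Scheme.Modules.pullback (Curv2.bcFst k X K)).obj L)) := by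
  haveI : IsIntegral X := GeometricallyIntegral.isIntegral_of_subsingleton (X ↘ Spec (CommRingCat.of k))
  haveI := H29RR.isNoetherian_of_proper (k := k) (X := X)
  have hEc := H29RR.isCoh_of_rank hE
  obtain ⟨π, s, hs, hker⟩ := exists_residue_rank O hO hn hE hEc hind hng K hK
  haveI : FiniteDimensional k K := Module.finite_of_finrank_pos (by rw [hK]; exact hn.pos)
  haveI : Finite K := Module.finite_of_finite k
  letI : (Curv2.bc k X K).Over (Spec (CommRingCat.of K)) := ⟨Curv2.bcSnd k X K⟩
  haveI : IsProper (Curv2.bc k X K ↘ Spec (CommRingCat.of K)) := inferInstanceAs (IsProper (pullback.snd _ _))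
  have hsq : IsPullback (Curv2.bcFst k X K) (Curv2.bc k X K ↘ Spec (CommRingCat.of K))
      (X ↘ Spec (CommRingCat.of k)) (Spec.map (CommRingCat.ofHom (algebraMap k K))) :=
    IsPullback.of_hasPullback _ _
  haveI : IsIntegral (Curv2.bc k X K) := GeometricallyIntegral.geometrically_isIntegral _ _ _ hsq
  obtain ⟨Φ, -⟩ := exists_endEquiv hsq hEc
  obtain ⟨Y, i, r, ν, hY, hir, hri, hF⟩ := exists_conjugates π s hs Φ hK hE
  exact ⟨fun a => Y (ν a), fun a => hY _, hF,
    fun a b hab ⟨φ⟩ => hab (ν.injective (eq_of_iso π s hs Φ hir hri φ)),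
    fun a L hL ⟨φ⟩ => not_iso_pullback hsq hir hn.one_lt hE hind.2 _ hL φ⟩

include O hO hn hE hind hng hK in
/-- The endomorphisms form the extension field of degree the rank. -/
theorem nonempty_end_equiv : Nonempty (End E ≃ₐ[k] K) := by
  haveI : IsIntegral X := GeometricallyIntegral.isIntegral_of_subsingleton (X ↘ Spec (CommRingCat.of k))
  haveI := H29RR.isNoetherian_of_proper (k := k) (X := X)
  have hEc := H29RR.isCoh_of_rank hE
  obtain ⟨π, s, hs, hker⟩ := exists_residue_rank O hO hn hE hEc hind hng K hK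
  haveI : FiniteDimensional k K := Module.finite_of_finrank_pos (by rw [hK]; exact hn.pos)
  haveI : Finite K := Module.finite_of_finite k
  letI : (Curv2.bc k X K).Over (Spec (CommRingCat.of K)) := ⟨Curv2.bcSnd k X K⟩
  haveI : IsProper (Curv2.bc k X K ↘ Spec (CommRingCat.of K)) := inferInstanceAs (IsProper (pullback.snd _ _))
  have hsq : IsPullback (Curv2.bcFst k X K) (Curv2.bc k X K ↘ Spec (CommRingCat.of K))
      (X ↘ Spec (CommRingCat.of k)) (Spec.map (CommRingCat.ofHom (algebraMap k K))) :=
    IsPullback.of_hasPullback _ _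
  haveI : IsIntegral (Curv2.bc k X K) := GeometricallyIntegral.geometrically_isIntegral _ _ _ hsq
  obtain ⟨Φ, -⟩ := exists_endEquiv hsq hEc
  obtain ⟨Y, i, r, ν, hY, hir, hri, -⟩ := exists_conjugates π s hs Φ hK hE
  exact ⟨AlgEquiv.ofBijective π (bijective_residue π s hs Φ hir hri hEc hker hY)⟩

end Groth.Agent.H7VB
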